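/-
Automorphisms of a symmetric design which fix every point of a block (axial automorphisms).

* `fixed_card_eq` : an automorphism fixes as many blocks as points
* `Axial.thru_fixed`, `Axial.thru_moved` : the incidences forced by an exact double count
* `Axial.unique_fixed` : at most one fixed point off the axis
* `Axial.eq_one_of_center` : a homology fixes only the axis and the blocks through its centre
* `Free.closed_axis`, `closed_meet` : the set of fixed blocks of an elation is closed
* `Free.exists_center` : criterion for an elation to have a centre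
-/
import Cfsg.Agent.EqLemmas

set_option autoImplicit false

namespace Cfsg.Agent.AxialDesign

open Finset

/-- A symmetric design, given by its blocks. -/
structure Design (X Ω : Type*) [Fintype X] [Fintype Ω] [DecidableEq Ω] where
  blk : X → Finset Ω
  k : ℕ
  l : ℕ
  card_eq : Fintype.card X = Fintype.card Ω
  card_blk : ∀ x, (blk x).card = k
  card_inter : ∀ x x', x ≠ x' → (blk x ∩ blk x').card = l
  card_thru : ∀ y, (univ.filter fun x => y ∈ blk x).card = k
  card_thru2 : ∀ y y', y ≠ y' → (univ.filter fun x => y ∈ blk x ∧ y' ∈ blk x).card = l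
  l_pos : 0 < l
  two_add_le : l + 2 ≤ k
  k_lt : k < Fintype.card Ω

variable {X Ω : Type*} [Fintype X] [Fintype Ω] [DecidableEq X] [DecidableEq Ω] (D : Design X Ω)

namespace Design

omit [DecidableEq X] in
theorem blk_injective : Function.Injective D.blk := by
  intro x x' h
  by_contra hne
  have := D.card_inter x x' hne
  rw [h, inter_self, D.card_blk] at this
  have := D.two_add_le
  omega

omit [DecidableEq X] in
theorem blk_eq_of_inter {x x' : X} (hne : x ≠ x') {S : Finset Ω} (h1 : S ⊆ D.blk x)
    (h2 : S ⊆ D.blk x') (hS : D.l ≤ S.card) : D.blk x ∩ D.blk x' = S :=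
  (eq_of_subset_of_card_le (subset_inter h1 h2) (by rw [D.card_inter _ _ hne]; exact hS)).symm

omit [DecidableEq X] in
theorem thru_injective {a b : Ω} (h : ∀ x, a ∈ D.blk x → b ∈ D.blk x) : a = b := by
  by_contra hne
  have h1 := D.card_thru a
  have h2 := D.card_thru2 a b hne
  have : (univ.filter fun x => a ∈ D.blk x) = univ.filter fun x => a ∈ D.blk x ∧ b ∈ D.blk x :=
    filter_congr fun x _ => ⟨fun hx => ⟨hx, h x hx⟩, fun hx => hx.1⟩
  rw [this, h2] at h1
  have := D.two_add_le
  omega

omit [DecidableEq X] in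
theorem count : D.k * D.k + D.l = D.k + Fintype.card Ω * D.l := by
  classical
  have hpos : 0 < Fintype.card X := by
    rw [D.card_eq]
    have := D.k_lt
    omega
  obtain ⟨x⟩ := Fintype.card_pos_iff.mp hpos
  have h1 : ∑ x', (D.blk x ∩ D.blk x').card = D.k * D.k := by
    calc ∑ x', (D.blk x ∩ D.blk x').card
        = ∑ x', ∑ y ∈ D.blk x, (if y ∈ D.blk x' then 1 else 0) :=
          sum_congr rfl fun x' _ => by rw [← card_filter, filter_mem_eq_inter]
      _ = ∑ y ∈ D.blk x, ∑ x', (if y ∈ D.blk x' then 1 else 0) := sum_comm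
      _ = D.k * D.k := by
          simp only [← card_filter, D.card_thru, sum_const, D.card_blk, smul_eq_mul]
  rw [← add_sum_erase univ _ (mem_univ x), inter_self, D.card_blk,
    sum_congr rfl fun x' hx' => D.card_inter x x' (ne_of_mem_erase hx').symm, sum_const,
    card_erase_of_mem (mem_univ x), card_univ, smul_eq_mul, D.card_eq] at h1
  rw [← h1, add_assoc, ← Nat.succ_mul, Nat.succ_eq_add_one, Nat.sub_add_cancel (D.card_eq ▸ hpos)]

/-- A pair of permutations preserving incidence. -/
def IsAuto (σ : Equiv.Perm X) (π : Equiv.Perm Ω) : Prop :=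
  ∀ x y, π y ∈ D.blk (σ x) ↔ y ∈ D.blk x

variable {D}

omit [DecidableEq X] in
theorem IsAuto.blk_map {σ : Equiv.Perm X} {π : Equiv.Perm Ω} (h : D.IsAuto σ π) (x : X) :
    D.blk (σ x) = (D.blk x).map π.toEmbedding := by
  ext y
  obtain ⟨y, rfl⟩ := π.surjective y
  simp [h x y]

omit [DecidableEq X] in
theorem IsAuto.eq_of_inter {σ : Equiv.Perm X} {π : Equiv.Perm Ω} (h : D.IsAuto σ π) {x : X} {S : Finset Ω}
    (hS : S ⊆ D.blk x) (hfix : ∀ y ∈ S, π y = y) : S ⊆ D.blk (σ x) := fun y hy => by
  rw [← hfix y hy, h]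
  exact hS hy

theorem IsAuto.fixed_card_eq {σ : Equiv.Perm X} {π : Equiv.Perm Ω} (h : D.IsAuto σ π) :
    (univ.filter fun x => σ x = x).card = (univ.filter fun y => π y = y).card := by
  have hy : ∀ y, (univ.filter fun x => y ∈ D.blk x ∧ π y ∈ D.blk x).card =
      if π y = y then D.k else D.l := fun y => by
    split_ifs with hf
    · simp only [hf, and_self]
      exact D.card_thru y
    · exact D.card_thru2 _ _ (Ne.symm hf)
  have hx : ∀ x, (univ.filter fun y => y ∈ D.blk (σ x) ∧ π y ∈ D.blk (σ x)).card =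
      if σ x = x then D.k else D.l := fun x => by
    have e : (univ.filter fun y => y ∈ D.blk (σ x) ∧ π y ∈ D.blk (σ x)) = D.blk (σ x) ∩ D.blk x := by
      ext y; simp [h x y]
    rw [e]
    split_ifs with hf
    · rw [hf, inter_self, D.card_blk]
    · exact D.card_inter _ _ hf
  have hsum : ∑ y, (univ.filter fun x => y ∈ D.blk x ∧ π y ∈ D.blk x).card =
      ∑ x, (univ.filter fun y => y ∈ D.blk (σ x) ∧ π y ∈ D.blk (σ x)).card := by
    simp only [card_filter]
    rw [sum_comm]
    exact (Equiv.sum_comp σ _).symm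
  simp only [hy, hx, sum_ite, sum_const, smul_eq_mul] at hsum
  have h1 := card_filter_add_card_filter_not (s := univ) (fun y => π y = y)
  have h2 := card_filter_add_card_filter_not (s := univ) (fun x => σ x = x)
  rw [card_univ] at h1 h2
  have := D.card_eq
  have := D.two_add_le
  set a := (univ.filter fun x => σ x = x).card
  set b := (univ.filter fun y => π y = y).card
  set a' := (univ.filter fun x => ¬σ x = x).card
  set b' := (univ.filter fun y => ¬π y = y).card
  obtain ⟨d, hd⟩ : ∃ d, D.k = D.l + d := ⟨D.k - D.l, by omega⟩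
  have e : b + b' = a + a' := by omega
  have : b * d = a * d := by
    rw [hd, mul_add, mul_add] at hsum
    have e' : b * D.l + b' * D.l = a * D.l + a' * D.l := by rw [← add_mul, ← add_mul, e]
    omega
  exact (Nat.eq_of_mul_eq_mul_right (by omega) this).symm

variable (D) in
/-- An automorphism fixing every point of the block `x₀`. -/
structure Axial (x₀ : X) (σ : Equiv.Perm X) (π : Equiv.Perm Ω) : Prop where
  auto : D.IsAuto σ π
  fix : ∀ y ∈ D.blk x₀, π y = y

variable (D) in
/-- An axial automorphism with no fixed point off the axis. -/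
structure Free (x₀ : X) (σ : Equiv.Perm X) (π : Equiv.Perm Ω) : Prop extends D.Axial x₀ σ π where
  free : ∀ y, π y = y → y ∈ D.blk x₀

section axial

variable {x₀ : X} {σ : Equiv.Perm X} {π : Equiv.Perm Ω}

omit [DecidableEq X] in
theorem Axial.fix_axis (h : D.Axial x₀ σ π) : σ x₀ = x₀ :=
  D.blk_injective (eq_of_subset_of_card_le (h.auto.eq_of_inter (S := D.blk x₀) subset_rfl h.fix)
    (by rw [D.card_blk, D.card_blk])).symm

theorem Axial.sum_axis (h : D.Axial x₀ σ π) :
    (∑ y ∈ D.blk x₀, ((univ.filter fun x => σ x = x).filter fun x => y ∈ D.blk x).card) + D.l =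
      D.k + (univ.filter fun x => σ x = x).card * D.l := by
  have hm : x₀ ∈ univ.filter fun x => σ x = x := by simp [h.fix_axis]
  simp only [card_filter _ (univ.filter fun x => σ x = x)]
  rw [sum_comm]
  simp only [← card_filter, filter_mem_eq_inter]
  rw [← add_sum_erase _ _ hm, inter_self, D.card_blk,
    sum_congr rfl fun x hx => D.card_inter x₀ x (ne_of_mem_erase hx).symm, sum_const, smul_eq_mul,
    card_erase_of_mem hm, add_assoc, ← Nat.succ_mul, Nat.succ_eq_add_one,
    Nat.sub_add_cancel (card_pos.mpr ⟨_, hm⟩)]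

omit [DecidableEq X] in
theorem sum_fixed (P : Finset X) :
    ∑ y, (P.filter fun x => y ∈ D.blk x).card = P.card * D.k := by
  simp only [card_filter]
  rw [sum_comm]
  simp only [← card_filter, filter_univ_mem, D.card_blk, sum_const, smul_eq_mul]

theorem Axial.incidence (h : D.Axial x₀ σ π) (y : Ω) (hy : y ∉ D.blk x₀) :
    ((univ.filter fun x => σ x = x).filter fun x => y ∈ D.blk x).card =
      if π y = y then D.k else D.l := by
  set P := univ.filter fun x => σ x = x with hP
  set F := univ.filter fun y => π y = y with hF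
  have hB : D.blk x₀ ⊆ F := fun z hz => mem_filter.mpr ⟨mem_univ _, h.fix z hz⟩
  let c : Ω → ℕ := fun z => (P.filter fun x => z ∈ D.blk x).card
  have hle : ∀ z ∈ univ \ D.blk x₀, c z ≤ if π z = z then D.k else D.l := fun z _ => by
    split_ifs with hf
    · exact (card_le_card (filter_subset_filter _ (subset_univ _))).trans_eq (D.card_thru z)
    · refine le_trans (card_le_card fun x hx => ?_) (D.card_thru2 z (π z) (Ne.symm hf)).le
      simp only [hP, mem_filter, mem_univ, true_and] at hx ⊢
      refine ⟨hx.2, ?_⟩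
      rw [← hx.1]
      exact (h.auto x z).mpr hx.2
  refine (sum_eq_sum_iff_of_le hle).mp ?_ y (mem_sdiff.mpr ⟨mem_univ _, hy⟩)
  -- the two totals agree
  have hA := h.sum_axis
  have hT : ∑ z, c z = P.card * D.k := sum_fixed P
  rw [← sum_sdiff (subset_univ (D.blk x₀))] at hT
  have e1 : (univ \ D.blk x₀).filter (fun z => π z = z) = F \ D.blk x₀ := by
    ext z; simp [hF]; tauto
  have e2 : (univ \ D.blk x₀).filter (fun z => ¬π z = z) = univ \ F := by
    ext z
    simp only [hF, mem_filter, mem_sdiff, mem_univ, true_and]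
    exact ⟨fun hz => hz.2, fun hz => ⟨fun hz' => hz (h.fix z hz'), hz⟩⟩
  have hR : ∑ z ∈ univ \ D.blk x₀, (if π z = z then D.k else D.l) =
      (F.card - D.k) * D.k + (Fintype.card Ω - F.card) * D.l := by
    rw [sum_ite, e1, e2, sum_const, sum_const, smul_eq_mul, smul_eq_mul, card_sdiff_of_subset hB,
      card_sdiff_of_subset (subset_univ _), D.card_blk, card_univ]
  rw [hR]
  have hf : P.card = F.card := h.auto.fixed_card_eq
  have hkF : D.k ≤ F.card := (D.card_blk x₀).symm.le.trans (card_le_card hB)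
  obtain ⟨e, he⟩ := Nat.exists_eq_add_of_le hkF
  obtain ⟨r, hr⟩ := Nat.exists_eq_add_of_le (card_le_univ F)
  have hcount := D.count
  rw [hr, he, add_mul, add_mul] at hcount
  rw [hf, he, add_mul] at hT hA
  rw [hr, he, Nat.add_sub_cancel_left, Nat.add_sub_cancel_left]
  change ∑ z ∈ univ \ D.blk x₀, c z = _
  change (∑ z ∈ D.blk x₀, c z) + D.l = D.k + (D.k * D.l + e * D.l) at hA
  omega

theorem Axial.thru_fixed (h : D.Axial x₀ σ π) {y : Ω} (hy : y ∉ D.blk x₀) (hf : π y = y) {x : X}
    (hx : y ∈ D.blk x) : σ x = x := by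
  have e := h.incidence y hy
  rw [if_pos hf, filter_filter] at e
  have := eq_of_subset_of_card_le
    (monotone_filter_right univ (fun _ _ hz => hz.2) :
      (univ.filter fun x => σ x = x ∧ y ∈ D.blk x) ⊆ univ.filter fun x => y ∈ D.blk x)
    (by rw [D.card_thru, e])
  have hm : x ∈ univ.filter fun x => y ∈ D.blk x := mem_filter.mpr ⟨mem_univ x, hx⟩
  rw [← this] at hm
  exact (mem_filter.mp hm).2.1

theorem Axial.thru_moved (h : D.Axial x₀ σ π) {y : Ω} (hf : π y ≠ y) {x : X}
    (hx : y ∈ D.blk x) (hx' : π y ∈ D.blk x) : σ x = x := by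
  have hy : y ∉ D.blk x₀ := fun hy => hf (h.fix y hy)
  have e := h.incidence y hy
  rw [if_neg hf, filter_filter] at e
  have hsub : (univ.filter fun x => σ x = x ∧ y ∈ D.blk x) ⊆
      univ.filter fun x => y ∈ D.blk x ∧ π y ∈ D.blk x := by
    intro z hz
    simp only [mem_filter, mem_univ, true_and] at hz ⊢
    refine ⟨hz.2, ?_⟩
    rw [← hz.1]
    exact (h.auto z y).mpr hz.2
  have := eq_of_subset_of_card_le hsub (by rw [D.card_thru2 _ _ (Ne.symm hf), e])
  have hm : x ∈ univ.filter fun x => y ∈ D.blk x ∧ π y ∈ D.blk x :=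
    mem_filter.mpr ⟨mem_univ x, hx, hx'⟩
  rw [← this] at hm
  exact (mem_filter.mp hm).2.1

theorem Axial.unique_fixed (h : D.Axial x₀ σ π) (hπ : π ≠ 1) {y₁ y₂ : Ω} (h1 : y₁ ∉ D.blk x₀)
    (h2 : y₂ ∉ D.blk x₀) (f1 : π y₁ = y₁) (f2 : π y₂ = y₂) : y₁ = y₂ := by
  by_contra hne
  -- a moved block
  obtain ⟨x, hx⟩ : ∃ x, σ x ≠ x := by
    by_contra hcon
    push Not at hcon
    have e := h.auto.fixed_card_eq
    rw [filter_true_of_mem fun x _ => hcon x, card_univ, D.card_eq, eq_comm] at e
    refine hπ (Equiv.ext fun z => ?_)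
    have hz : z ∈ univ.filter fun y => π y = y := by
      rw [(card_eq_iff_eq_univ _).mp e]; exact mem_univ z
    exact (mem_filter.mp hz).2
  -- blocks through `y₁` avoiding `y₂` consist of fixed points
  let C := univ.filter fun x => y₁ ∈ D.blk x ∧ y₂ ∉ D.blk x
  have hC : 2 ≤ C.card := by
    have e := card_filter_add_card_filter_not
      (s := univ.filter fun x => y₁ ∈ D.blk x) (fun x => y₂ ∈ D.blk x)
    rw [filter_filter, filter_filter, D.card_thru, D.card_thru2 _ _ hne] at e
    have := D.two_add_le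
    change 2 ≤ (univ.filter fun x => y₁ ∈ D.blk x ∧ ¬y₂ ∈ D.blk x).card
    omega
  have hCF : ∀ c ∈ C, ∀ p ∈ D.blk c, π p = p := by
    intro c hc p hp
    by_contra hpf
    simp only [C, mem_filter, mem_univ, true_and] at hc
    have hpB : p ∉ D.blk x₀ := fun hB => hpf (h.fix p hB)
    have hpy : p ≠ y₂ := fun e => hc.2 (e ▸ hp)
    have hsub : (univ.filter fun z => p ∈ D.blk z ∧ y₂ ∈ D.blk z) ⊆
        (univ.filter fun z => σ z = z).filter fun z => p ∈ D.blk z := fun z hz => by
      simp only [mem_filter, mem_univ, true_and] at hz ⊢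
      exact ⟨h.thru_fixed h2 f2 hz.2, hz.1⟩
    have := eq_of_subset_of_card_le hsub (by
      rw [D.card_thru2 _ _ hpy, h.incidence p hpB, if_neg hpf])
    have hm : c ∈ univ.filter fun z => p ∈ D.blk z ∧ y₂ ∈ D.blk z := this.symm ▸
      mem_filter.mpr ⟨mem_filter.mpr ⟨mem_univ _, h.thru_fixed h1 f1 hc.1⟩, hp⟩
    exact hc.2 (mem_filter.mp hm).2.2
  have hxne : x ≠ x₀ := fun e => hx (e ▸ h.fix_axis)
  have hmeet : ∀ c ∈ C, D.blk x ∩ D.blk x₀ ⊆ D.blk c := by
    intro c hc
    have hcx : x ≠ c := fun e => hx (by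
      rw [e]; exact h.thru_fixed h1 f1 (mem_filter.mp hc).2.1)
    have hsub : D.blk x ∩ D.blk c ⊆ D.blk x ∩ D.blk x₀ := fun p hp => by
      rw [mem_inter] at hp ⊢
      refine ⟨hp.1, ?_⟩
      by_contra hpB
      exact hx (h.thru_fixed hpB (hCF c hc p hp.2) hp.1)
    rw [← eq_of_subset_of_card_le hsub (by rw [D.card_inter _ _ hcx, D.card_inter _ _ hxne])]
    exact inter_subset_right
  obtain ⟨c, hc, c', hc', hcc⟩ := one_lt_card.mp hC
  have hS : y₁ ∉ D.blk x ∩ D.blk x₀ := fun hy => h1 (mem_inter.mp hy).2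
  have hsub : insert y₁ (D.blk x ∩ D.blk x₀) ⊆ D.blk c ∩ D.blk c' := by
    refine insert_subset ?_ (subset_inter (hmeet c hc) (hmeet c' hc'))
    exact mem_inter.mpr ⟨(mem_filter.mp hc).2.1, (mem_filter.mp hc').2.1⟩
  have := card_le_card hsub
  rw [card_insert_of_notMem hS, D.card_inter _ _ hxne, D.card_inter _ _ hcc] at this
  omega

/-- A homology fixes only its axis and the blocks through its centre. -/
theorem Axial.eq_one_of_center (h : D.Axial x₀ σ π) {y : Ω} (hy : y ∉ D.blk x₀) (hf : π y = y) {x : X}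
    (hx : σ x = x) (hne : x ≠ x₀) (hyx : y ∉ D.blk x) : π = 1 := by
  by_contra hπ
  have hF : (univ.filter fun z => π z = z) ⊆ insert y (D.blk x₀) := fun z hz => by
    by_contra hcon
    rw [mem_insert, not_or] at hcon
    exact hcon.1 (h.unique_fixed hπ hcon.2 hy (mem_filter.mp hz).2 hf)
  have h1 := (card_le_card hF).trans_eq (card_insert_of_notMem hy)
  rw [← h.auto.fixed_card_eq, D.card_blk] at h1
  have hsub : insert x (insert x₀ (univ.filter fun z => y ∈ D.blk z)) ⊆
      univ.filter fun z => σ z = z := by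
    intro z hz
    simp only [mem_insert, mem_filter, mem_univ, true_and] at hz ⊢
    rcases hz with rfl | rfl | hz
    · exact hx
    · exact h.fix_axis
    · exact h.thru_fixed hy hf hz
  have h2 := card_le_card hsub
  rw [card_insert_of_notMem (by simp [hne, hyx]), card_insert_of_notMem (by simp [hy]),
    D.card_thru] at h2
  omega

/-- If a fixed block is met inside the set of fixed blocks, every block through that meet is fixed. -/
theorem closed_meet (h : D.Axial x₀ σ π) {b c e : X} (hb : σ b = b) (hc : σ c = c) (hbc : b ≠ c)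
    (hout : ¬D.blk b ∩ D.blk c ⊆ D.blk x₀) (he : D.blk b ∩ D.blk c ⊆ D.blk e) : σ e = e := by
  by_contra hne
  have hS : D.blk b ∩ D.blk c ⊆ D.blk (σ e) := fun y hy => by
    obtain ⟨y', rfl⟩ := π.surjective y
    have hy1 := mem_inter.mp hy
    rw [h.auto]
    refine he (mem_inter.mpr ⟨?_, ?_⟩)
    · rw [← h.auto b y', hb]; exact hy1.1
    · rw [← h.auto c y', hc]; exact hy1.2
  have hS' : D.blk e ∩ D.blk x₀ ⊆ D.blk (σ e) :=
    h.auto.eq_of_inter inter_subset_left fun y hy => h.fix y (mem_inter.mp hy).2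
  have he0 : e ≠ x₀ := fun e' => hne (e' ▸ h.fix_axis)
  have h1 := D.blk_eq_of_inter (Ne.symm hne) he hS (by rw [D.card_inter _ _ hbc])
  have h2 := D.blk_eq_of_inter (Ne.symm hne) inter_subset_left hS' (by rw [D.card_inter _ _ he0])
  exact hout (by rw [← h1, h2]; exact inter_subset_right)

theorem Free.fixed_card (h : D.Free x₀ σ π) : (univ.filter fun x => σ x = x).card = D.k := by
  rw [h.auto.fixed_card_eq, ← D.card_blk x₀]
  congr 1
  ext y
  simp only [mem_filter, mem_univ, true_and]
  exact ⟨h.free y, h.fix y⟩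

theorem Free.sum_blk (h : D.Free x₀ σ π) {e : X} (he : e ≠ x₀) :
    (∑ y ∈ D.blk e ∩ D.blk x₀, ((univ.filter fun x => σ x = x).filter fun x => y ∈ D.blk x).card) +
      (D.k - D.l) * D.l = D.k * D.l + if σ e = e then D.k - D.l else 0 := by
  set P := univ.filter fun x => σ x = x with hP
  have hout : ∀ y ∈ D.blk e \ D.blk x₀, (P.filter fun x => y ∈ D.blk x).card = D.l := fun y hy => by
    have hy' := (mem_sdiff.mp hy).2
    rw [h.toAxial.incidence y hy', if_neg fun hf => hy' (h.free y hf)]
  have hsd : (D.blk e \ D.blk x₀).card = D.k - D.l := by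
    rw [card_sdiff, inter_comm, D.card_inter _ _ he, D.card_blk]
  have htot : ∑ y ∈ D.blk e, (P.filter fun x => y ∈ D.blk x).card =
      D.k * D.l + if σ e = e then D.k - D.l else 0 := by
    simp only [card_filter _ P]
    rw [sum_comm]
    simp only [← card_filter, filter_mem_eq_inter]
    split_ifs with hfe
    · have hm : e ∈ P := by simp [hP, hfe]
      rw [← add_sum_erase _ _ hm, inter_self, D.card_blk,
        sum_congr rfl fun x hx => D.card_inter e x (ne_of_mem_erase hx).symm, sum_const,
        smul_eq_mul, card_erase_of_mem hm, h.fixed_card]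
      have := D.two_add_le
      have e1 : D.k * D.l = (D.k - 1) * D.l + D.l := by
        rw [← Nat.succ_mul, Nat.succ_eq_add_one, Nat.sub_add_cancel (by omega)]
      omega
    · rw [sum_congr rfl fun x hx => D.card_inter e x fun e' => hfe (e' ▸ (mem_filter.mp hx).2),
        sum_const, smul_eq_mul, h.fixed_card, Nat.add_zero]
  rw [← htot, ← sum_sdiff (inter_subset_left (s₁ := D.blk e) (s₂ := D.blk x₀)),
    sdiff_inter_self_left, sum_congr rfl hout, sum_const, smul_eq_mul, hsd, add_comm]

/-- All blocks through the meet of the axis with a fixed block of an elation are fixed. -/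
theorem Free.closed_axis (h : D.Free x₀ σ π) {c e : X} (hc : σ c = c) (hc0 : c ≠ x₀) (he0 : e ≠ x₀)
    (he : D.blk c ∩ D.blk x₀ ⊆ D.blk e) : σ e = e := by
  by_contra hne
  have hS : D.blk e ∩ D.blk x₀ = D.blk c ∩ D.blk x₀ :=
    D.blk_eq_of_inter he0 he inter_subset_right (by rw [D.card_inter _ _ hc0])
  have h1 := h.sum_blk hc0
  have h2 := h.sum_blk he0
  rw [if_pos hc] at h1
  rw [if_neg hne, hS] at h2
  have := D.two_add_le
  omega

/-- An elation has a centre as soon as its incidence numbers are trivial off every fixed block. -/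
theorem Free.exists_center (h : D.Free x₀ σ π)
    (hc : ∀ c, σ c = c → c ≠ x₀ → ∀ y ∈ D.blk x₀, y ∉ D.blk c →
      ((univ.filter fun x => σ x = x).filter fun x => y ∈ D.blk x).card = D.l) :
    ∃ a ∈ D.blk x₀, ∀ x, σ x = x ↔ a ∈ D.blk x := by
  obtain ⟨a, ha, hal⟩ : ∃ a ∈ D.blk x₀,
      ((univ.filter fun x => σ x = x).filter fun x => a ∈ D.blk x).card ≠ D.l := by
    by_contra hcon
    push Not at hcon
    have := h.toAxial.sum_axis
    rw [sum_congr rfl hcon, sum_const, smul_eq_mul, D.card_blk, h.fixed_card] at this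
    have := D.two_add_le
    omega
  refine ⟨a, ha, fun x => ⟨fun hx => ?_, fun hx => ?_⟩⟩
  · by_cases hx0 : x = x₀
    · rwa [hx0]
    · by_contra hax
      exact hal (hc x hx hx0 a ha hax)
  · have hsub : (univ.filter fun z => σ z = z) ⊆ univ.filter fun z => a ∈ D.blk z := fun z hz => by
      simp only [mem_filter, mem_univ, true_and] at hz ⊢
      by_cases hz0 : z = x₀
      · rwa [hz0]
      · by_contra haz
        exact hal (hc z hz hz0 a ha haz)
    have := eq_of_subset_of_card_le hsub (by rw [D.card_thru, h.fixed_card])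
    have hm : x ∈ univ.filter fun z => a ∈ D.blk z := mem_filter.mpr ⟨mem_univ x, hx⟩
    rw [← this] at hm
    exact (mem_filter.mp hm).2

end axial

end Design

end Cfsg.Agent.AxialDesign
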