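/-
A group of automorphisms of a symmetric design with a semiregular axial group for every block.

* `AxialSys.exists_centre` : every such axial element has a centre
* `AxialSys.parameters` : `k = l * Q + 1`, and the axial group has order equal to the number of points
  off the axis, so it is transitive on them
* `AxialSys.commute` : the axial groups are abelian
* `AxialSys.elation_mem` : every elation of the design lies in one of the axial groups
-/
import Cfsg.Agent.Lib.AxialDesign.Design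

set_option autoImplicit false

namespace Cfsg.Agent.AxialDesign

open Finset MulAction

/-- A semiregular axial group for every block, permuted by the group. -/
structure AxialSys (G X Ω : Type*) [Group G] [Fintype X] [Fintype Ω] [DecidableEq X] [DecidableEq Ω]
    [MulAction G X] [MulAction G Ω] where
  D : Design X Ω
  inv : ∀ (g : G) x y, g • y ∈ D.blk (g • x) ↔ y ∈ D.blk x
  faithful : ∀ g : G, (∀ y : Ω, g • y = y) → g = 1
  U : X → Subgroup G
  conj : ∀ (g : G) x, ∀ u ∈ U x, g * u * g⁻¹ ∈ U (g • x)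
  axis : ∀ x, ∀ u ∈ U x, ∀ y ∈ D.blk x, u • y = y
  free : ∀ x, ∀ u ∈ U x, ∀ y, y ∉ D.blk x → u • y = y → u = 1
  move : ∀ x c, c ≠ x → ∃ u ∈ U x, u • c ≠ c
  trans : ∀ x, ∀ a ∈ D.blk x, ∀ b ∈ D.blk x, ∃ g : G, g • x = x ∧ g • a = b

variable {G X Ω : Type*} [Group G] [Finite G] [Fintype X] [Fintype Ω] [DecidableEq X] [DecidableEq Ω]
  [MulAction G X] [MulAction G Ω]

namespace AxialSys

variable (S : AxialSys G X Ω)

omit [Finite G] in
theorem isAuto (g : G) : S.D.IsAuto (toPerm g) (toPerm g) := fun x y => S.inv g x y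

omit [Finite G] in
theorem axial {x : X} {u : G} (hu : u ∈ S.U x) : S.D.Axial x (toPerm u) (toPerm u) :=
  ⟨S.isAuto u, fun y hy => S.axis x u hu y hy⟩

omit [Finite G] in
theorem free' {x : X} {u : G} (hu : u ∈ S.U x) (h1 : u ≠ 1) : S.D.Free x (toPerm u) (toPerm u) :=
  ⟨S.axial hu, fun y hy => by_contra fun hy' => h1 (S.free x u hu y hy' hy)⟩

omit [Finite G] in
theorem fix_axis {x : X} {u : G} (hu : u ∈ S.U x) : u • x = x := (S.axial hu).fix_axis

omit [Finite G] in
theorem eq_one_of_two {x c : X} (hne : x ≠ c) {u : G} (hx : u ∈ S.U x) (hc : u ∈ S.U c) : u = 1 := by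
  have hns : ¬S.D.blk c ⊆ S.D.blk x := fun h =>
    hne (S.D.blk_injective (eq_of_subset_of_card_le h (by rw [S.D.card_blk, S.D.card_blk]))).symm
  obtain ⟨y, hyc, hyx⟩ := not_subset.mp hns
  exact S.free x u hx y hyx (S.axis c u hc y hyc)

omit [Finite G] in
theorem meet_subset {x : X} {u : G} (hu : u ∈ S.U x) (c : X) :
    S.D.blk x ∩ S.D.blk c ⊆ S.D.blk (u • c) :=
  (S.isAuto u).eq_of_inter inter_subset_right fun y hy => S.axis x u hu y (mem_inter.mp hy).1

omit [Finite G] in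
theorem closed {x : X} {u : G} (hu : u ∈ S.U x) {c e : X} (hc : u • c = c) (hcx : c ≠ x) (hex : e ≠ x)
    (he : S.D.blk c ∩ S.D.blk x ⊆ S.D.blk e) : u • e = e := by
  by_cases h1 : u = 1
  · rw [h1, one_smul]
  · exact (S.free' hu h1).closed_axis hc hcx hex he

omit [Finite G] in
theorem commute_of_fix {x c : X} (hne : x ≠ c) {g h : G} (hg : g ∈ S.U x) (hh : h ∈ S.U c)
    (hgc : g • c = c) (hhx : h • x = x) : g * h = h * g := by
  have h1 : g * h * g⁻¹ * h⁻¹ ∈ S.U c := by
    refine mul_mem ?_ (inv_mem hh)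
    simpa [hgc] using S.conj g c h hh
  have h2 : g * h * g⁻¹ * h⁻¹ ∈ S.U x := by
    rw [mul_assoc g h g⁻¹, mul_assoc g]
    exact mul_mem hg (by simpa [hhx] using S.conj h x g⁻¹ (inv_mem hg))
  have e := S.eq_one_of_two hne h2 h1
  rw [mul_inv_eq_one, mul_inv_eq_iff_eq_mul] at e
  exact e

omit [Finite G] in
/-- The commutator of an axial element with an elation of another axis fixing the axis. -/
theorem comm_mem {x c : X} (hne : c ≠ x) {u h : G} (hu : u ∈ S.U x) (hh : h ∈ S.U c) (hhx : h • x = x) :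
    u * h * u⁻¹ * h⁻¹ ∈ S.U x ∧ ∀ e : X, h • e = e → (u * h * u⁻¹ * h⁻¹) • e = e := by
  have hz : u * h * u⁻¹ * h⁻¹ ∈ S.U x := by
    rw [mul_assoc u h u⁻¹, mul_assoc u]
    exact mul_mem hu (by simpa [hhx] using S.conj h x u⁻¹ (inv_mem hu))
  refine ⟨hz, fun e he => ?_⟩
  have hhe : h⁻¹ • e = e := inv_smul_eq_iff.mpr he.symm
  -- it is enough that `h` fixes the inverse image
  have red : ∀ e' : X, h⁻¹ • e' = e' → h • (u⁻¹ • e') = u⁻¹ • e' → (u * h * u⁻¹ * h⁻¹) • e' = e' :=
    fun e' h1 h2 => by rw [mul_smul, mul_smul, mul_smul, h1, h2, smul_inv_smul]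
  have hzc : (u * h * u⁻¹ * h⁻¹) • c = c := by
    refine red c (inv_smul_eq_iff.mpr (S.fix_axis hh).symm) ?_
    by_cases hc' : u⁻¹ • c = c
    · rw [hc', S.fix_axis hh]
    · refine S.closed hh hhx hne.symm hc' ?_
      exact S.meet_subset (inv_mem hu) c
  by_cases hex : e = x
  · rw [hex]; exact S.fix_axis hz
  by_cases hsub : S.D.blk c ∩ S.D.blk x ⊆ S.D.blk e
  · exact S.closed hz hzc hne hex hsub
  refine red e hhe ?_
  refine Design.closed_meet (S.axial hh) (b := x) (c := e) hhx he (Ne.symm hex) (fun hin => hsub ?_)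
    (S.meet_subset (inv_mem hu) e)
  have hS := S.D.blk_eq_of_inter hne hin inter_subset_left
    (by rw [S.D.card_inter _ _ (Ne.symm hex)])
  rw [hS]
  exact inter_subset_right

omit [Finite G] in
theorem fix_iff {x c : X} {z h : G} (hz : z ∈ S.U x) (hz1 : z ≠ 1) (hh : h ∈ S.U c) (hh1 : h ≠ 1)
    (hsub : ∀ e : X, h • e = e → z • e = e) (e : X) : z • e = e ↔ h • e = e := by
  refine ⟨fun he => ?_, hsub e⟩
  have := eq_of_subset_of_card_le
    (monotone_filter_right univ (fun e _ => hsub e) :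
      (univ.filter fun e => h • e = e) ⊆ univ.filter fun e => z • e = e)
    (le_of_eq ((S.free' hz hz1).fixed_card.trans (S.free' hh hh1).fixed_card.symm))
  have hm : e ∈ univ.filter fun e => z • e = e := mem_filter.mpr ⟨mem_univ e, he⟩
  rw [← this] at hm
  exact (mem_filter.mp hm).2

omit [Finite G] in
theorem comm_eq_iff {x c : X} {u u' h : G} (hu : u ∈ S.U x) (hu' : u' ∈ S.U x) (hne : x ≠ c)
    (hh : h ∈ S.U c) (hh1 : h ≠ 1) (hhx : h • x = x) :
    u * h * u⁻¹ * h⁻¹ = u' * h * u'⁻¹ * h⁻¹ ↔ u • c = u' • c := by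
  constructor
  · intro e
    have e' := mul_right_cancel e
    by_contra hne'
    refine hh1 ?_
    have h1 := S.conj u c h hh
    have h2 := S.conj u' c h hh
    rw [← e'] at h2
    have := S.eq_one_of_two hne' h1 h2
    exact conj_eq_one_iff.mp this
  · intro e
    congr 1
    have hv : u'⁻¹ * u ∈ S.U x := mul_mem (inv_mem hu') hu
    have hvc : (u'⁻¹ * u) • c = c := by rw [mul_smul, e, inv_smul_smul]
    have hcm := S.commute_of_fix hne hv hh hvc hhx
    calc u * h * u⁻¹ = u' * ((u'⁻¹ * u) * h) * u⁻¹ := by group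
      _ = u' * (h * (u'⁻¹ * u)) * u⁻¹ := by rw [hcm]
      _ = u' * h * u'⁻¹ := by group

/-- The axial elements fixing another block. -/
def W (x c : X) : Subgroup G := S.U x ⊓ stabilizer G c

/-- Every axial element fixing another block is a commutator with it. -/
theorem comm_surj {x c : X} (hne : c ≠ x) {u : G} (hu : u ∈ S.U x) (huc : u • c ≠ c) {z : G}
    (hz : z ∈ S.W x c) : ∃ h ∈ S.W c x, u * h * u⁻¹ * h⁻¹ = z := by
  have key : ∀ (x c : X) (hne : c ≠ x) (u : G), u ∈ S.U x → u • c ≠ c → ∃ f : ↥(S.W c x) → ↥(S.W x c),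
      Function.Injective f ∧ ∀ h, (f h : G) = u * h * u⁻¹ * (h : G)⁻¹ := by
    intro x c hne u hu huc
    refine ⟨fun h => ⟨u * h * u⁻¹ * (h : G)⁻¹, ?_, ?_⟩, fun h h' e => ?_, fun h => rfl⟩
    · exact (S.comm_mem hne hu h.2.1 h.2.2).1
    · exact (S.comm_mem hne hu h.2.1 h.2.2).2 c (S.fix_axis h.2.1)
    · replace e : u * h * u⁻¹ * (h : G)⁻¹ = u * h' * u⁻¹ * (h' : G)⁻¹ := congrArg Subtype.val e
      have hv : ((h' : G)⁻¹ * h) ∈ S.W c x := mul_mem (inv_mem h'.2) h.2
      have e' : u * ((h' : G)⁻¹ * h) * u⁻¹ = (h' : G)⁻¹ * h := by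
        calc u * ((h' : G)⁻¹ * h) * u⁻¹
            = (u * (h' : G)⁻¹ * u⁻¹) * ((u * h * u⁻¹ * (h : G)⁻¹) * h) := by group
          _ = (u * (h' : G)⁻¹ * u⁻¹) * ((u * h' * u⁻¹ * (h' : G)⁻¹) * h) := by rw [e]
          _ = (h' : G)⁻¹ * h := by group
      have h1 := S.conj u c _ hv.1
      rw [e'] at h1
      have := S.eq_one_of_two huc h1 hv.1
      exact Subtype.ext (inv_mul_eq_one.mp this).symm
  obtain ⟨u', hu', hu'x⟩ := S.move c x hne.symm
  obtain ⟨f, hf, hf'⟩ := key x c hne u hu huc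
  obtain ⟨f', hf₂, -⟩ := key c x hne.symm u' hu' hu'x
  have hbij := hf.bijective_of_nat_card_le (Nat.card_le_card_of_injective f' hf₂)
  obtain ⟨h, hh⟩ := hbij.2 ⟨z, hz⟩
  exact ⟨h, h.2, (hf' h).symm.trans (congrArg Subtype.val hh)⟩

theorem exists_centre {x : X} {z : G} (hz : z ∈ S.U x) (hz1 : z ≠ 1) :
    ∃ a ∈ S.D.blk x, ∀ e, z • e = e ↔ a ∈ S.D.blk e := by
  refine (S.free' hz hz1).exists_center fun c hc hcx y hy hyc => ?_
  obtain ⟨u, hu, huc⟩ := S.move x c hcx
  obtain ⟨h, hh, rfl⟩ := S.comm_surj hcx hu huc (z := z) ⟨hz, hc⟩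
  have hh1 : h ≠ 1 := by rintro rfl; simp at hz1
  have e := (S.free' hh.1 hh1).incidence y hyc
  rw [if_neg fun hf => hyc ((S.free' hh.1 hh1).free y hf)] at e
  refine Eq.trans (congrArg card (congrArg (filter _) ?_)) e
  exact filter_congr fun e _ =>
    S.fix_iff hz hz1 hh.1 hh1 (S.comm_mem hcx hu hh.1 hh.2).2 e

/-- The elations with given axis and centre. -/
def T (x : X) (a : Ω) : Subgroup G where
  carrier := {u | u ∈ S.U x ∧ ∀ e, a ∈ S.D.blk e → u • e = e}
  mul_mem' := fun {u v} hu hv => ⟨mul_mem hu.1 hv.1, fun e he => by rw [mul_smul, hv.2 e he, hu.2 e he]⟩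
  one_mem' := ⟨one_mem _, fun e _ => one_smul G e⟩
  inv_mem' := fun {u} hu => ⟨inv_mem hu.1, fun e he => inv_smul_eq_iff.mpr (hu.2 e he).symm⟩

omit [Finite G] in
theorem mem_T {x : X} {a : Ω} {u : G} :
    u ∈ S.T x a ↔ u ∈ S.U x ∧ ∀ e, a ∈ S.D.blk e → u • e = e := Iff.rfl

omit [Finite G] in
theorem T_centre {x : X} {a : Ω} {u : G} (hu : u ∈ S.T x a) (h1 : u ≠ 1) (e : X) :
    u • e = e ↔ a ∈ S.D.blk e := by
  refine ⟨fun he => ?_, hu.2 e⟩
  have := eq_of_subset_of_card_le
    (monotone_filter_right univ (fun e _ => hu.2 e) :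
      (univ.filter fun e => a ∈ S.D.blk e) ⊆ univ.filter fun e => u • e = e)
    (le_of_eq ((S.free' hu.1 h1).fixed_card.trans (S.D.card_thru a).symm))
  have hm : e ∈ univ.filter fun e => u • e = e := mem_filter.mpr ⟨mem_univ e, he⟩
  rw [← this] at hm
  exact (mem_filter.mp hm).2

omit [Finite G] in
theorem T_unique {x : X} {a b : Ω} {u : G} (ha : u ∈ S.T x a) (hb : u ∈ S.T x b) (h1 : u ≠ 1) : a = b :=
  S.D.thru_injective fun e he => (S.T_centre hb h1 e).mp ((S.T_centre ha h1 e).mpr he)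

omit [Finite G] in
theorem T_conj {x : X} {a : Ω} (g : G) {u : G} (hu : u ∈ S.T x a) :
    g * u * g⁻¹ ∈ S.T (g • x) (g • a) := by
  refine ⟨S.conj g x u hu.1, fun e he => ?_⟩
  rw [mul_smul, mul_smul, hu.2 _ (by rwa [← S.inv g, smul_inv_smul]), smul_inv_smul]

theorem exists_mem_T {x : X} {u : G} (hu : u ∈ S.U x) (h1 : u ≠ 1) : ∃ a ∈ S.D.blk x, u ∈ S.T x a := by
  obtain ⟨a, ha, h⟩ := S.exists_centre hu h1
  exact ⟨a, ha, hu, fun e => (h e).mpr⟩

theorem card_T_eq {x : X} {a b : Ω} (ha : a ∈ S.D.blk x) (hb : b ∈ S.D.blk x) :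
    Nat.card ↥(S.T x a) = Nat.card ↥(S.T x b) := by
  have key : ∀ a ∈ S.D.blk x, ∀ b ∈ S.D.blk x, Nat.card ↥(S.T x a) ≤ Nat.card ↥(S.T x b) := by
    intro a ha b hb
    obtain ⟨g, hgx, hga⟩ := S.trans x a ha b hb
    refine Nat.card_le_card_of_injective
      (fun u => ⟨g * u * g⁻¹, by simpa [hgx, hga] using S.T_conj g u.2⟩) fun u v e => ?_
    simpa using e
  exact le_antisymm (key a ha b hb) (key b hb a ha)

/-- A subgroup of an axial group which is a union of elation groups. -/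
theorem card_union {x : X} (K : Subgroup G) (hK : K ≤ S.U x) (A : Finset Ω) (hA : A ⊆ S.D.blk x)
    (hmem : ∀ a ∈ S.D.blk x, ∀ u ∈ S.T x a, u ≠ 1 → (u ∈ K ↔ a ∈ A)) (τ : ℕ)
    (hτ : ∀ a ∈ A, Nat.card ↥(S.T x a) = τ) : Nat.card ↥K = 1 + A.card * (τ - 1) := by
  classical
  haveI := Fintype.ofFinite G
  have hu : (univ.filter fun u : G => u ∈ K ∧ u ≠ 1) =
      A.biUnion fun a => univ.filter fun u : G => u ∈ S.T x a ∧ u ≠ 1 := by
    ext u
    simp only [mem_filter, mem_univ, true_and, mem_biUnion]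
    constructor
    · rintro ⟨hk, h1⟩
      obtain ⟨a, ha, hua⟩ := S.exists_mem_T (hK hk) h1
      exact ⟨a, (hmem a ha u hua h1).mp hk, hua, h1⟩
    · rintro ⟨a, ha, hua, h1⟩
      exact ⟨(hmem a (hA ha) u hua h1).mpr ha, h1⟩
  have hc : ∀ H : Subgroup G, Nat.card ↥H = 1 + (univ.filter fun u : G => u ∈ H ∧ u ≠ 1).card := fun H => by
    have : (univ.filter fun u : G => u ∈ H) = insert 1 (univ.filter fun u : G => u ∈ H ∧ u ≠ 1) := by
      ext u
      by_cases h : u = 1 <;> simp [h, one_mem]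
    rw [Nat.card_eq_fintype_card, Fintype.card_subtype, this, card_insert_of_notMem (by simp), add_comm]
  rw [hc K, hu, card_biUnion]
  · congr 1
    rw [sum_congr rfl fun a ha => show _ = τ - 1 by
      have := hc (S.T x a); rw [hτ a ha] at this; omega, sum_const, smul_eq_mul]
  · intro a _ b _ hab
    rw [Function.onFun, disjoint_left]
    simp only [mem_filter, mem_univ, true_and]
    exact fun u h1 h2 => hab (S.T_unique h1.1 h2.1 h1.2)

/-- The order of an elation group, for the axis `x`. -/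
noncomputable def Q (x : X) : ℕ :=
  Nat.card ↥(S.T x (Finset.card_pos.mp (by
    rw [S.D.card_blk x]; have := S.D.two_add_le; omega)).choose)

theorem card_T {x : X} {a : Ω} (ha : a ∈ S.D.blk x) : Nat.card ↥(S.T x a) = S.Q x :=
  S.card_T_eq ha (Finset.card_pos.mp (by
    rw [S.D.card_blk x]; have := S.D.two_add_le; omega)).choose_spec

theorem card_U (x : X) : Nat.card ↥(S.U x) = 1 + S.D.k * (S.Q x - 1) := by
  rw [S.card_union (S.U x) le_rfl (S.D.blk x) subset_rfl (fun a ha u hu _ => iff_of_true hu.1 ha)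
    (S.Q x) fun a ha => S.card_T ha, S.D.card_blk]

theorem card_W {x c : X} (hne : c ≠ x) : Nat.card ↥(S.W x c) = 1 + S.D.l * (S.Q x - 1) := by
  rw [S.card_union (S.W x c) inf_le_left (S.D.blk x ∩ S.D.blk c) inter_subset_left
    (fun a ha u hu h1 => ?_) (S.Q x) fun a ha => S.card_T (mem_inter.mp ha).1,
    S.D.card_inter _ _ hne.symm]
  rw [W, Subgroup.mem_inf, mem_stabilizer_iff, S.T_centre hu h1, mem_inter]
  exact ⟨fun h => ⟨ha, h.2⟩, fun h => ⟨hu.1, h.2⟩⟩

omit [Finite G] in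
include S in
theorem exists_block_ne (x : X) : ∃ c, c ≠ x := by
  haveI : Nontrivial X := Fintype.one_lt_card_iff_nontrivial.mp (by
    rw [S.D.card_eq]; have := S.D.k_lt; have := S.D.two_add_le; omega)
  exact exists_ne x

theorem one_lt_Q (x : X) : 1 < S.Q x := by
  obtain ⟨c, hc⟩ := S.exists_block_ne x
  obtain ⟨u, hu, huc⟩ := S.move x c hc
  by_contra hle
  have h := S.card_U x
  rw [Nat.sub_eq_zero_of_le (not_lt.mp hle), mul_zero, add_zero] at h
  rw [Subgroup.card_eq_one.mp h, Subgroup.mem_bot] at hu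
  exact huc (by rw [hu, one_smul])

theorem exists_ne_T {x : X} {a : Ω} (ha : a ∈ S.D.blk x) : ∃ u ∈ S.T x a, u ≠ 1 := by
  by_contra h
  push Not at h
  have h' : S.T x a = ⊥ := (Subgroup.eq_bot_iff_forall _).mpr h
  have h1 := S.card_T ha
  have := S.one_lt_Q x
  rw [h', Subgroup.card_bot] at h1
  omega

/-- The parameters, and the order of the orbit of a block under an axial group. -/
theorem parameters (x : X) : S.D.k = S.D.l * S.Q x + 1 ∧
    Nat.card ↥(S.U x) + S.D.k = Fintype.card Ω := by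
  classical
  obtain ⟨c, hc⟩ := S.exists_block_ne x
  set o' := Nat.card (orbit ↥(S.U x) c) with ho'
  -- orbit times stabiliser
  have horb : o' * (1 + S.D.l * (S.Q x - 1)) = 1 + S.D.k * (S.Q x - 1) := by
    rw [← S.card_U x, ← S.card_W hc, ho']
    have e : Nat.card ↥(stabilizer ↥(S.U x) c) = Nat.card ↥(S.W x c) :=
      Nat.card_congr
        { toFun := fun u => ⟨(u : ↥(S.U x)), ⟨(u : ↥(S.U x)).2, u.2⟩⟩
          invFun := fun u => ⟨⟨u, u.2.1⟩, u.2.2⟩
          left_inv := fun u => rfl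
          right_inv := fun u => rfl }
    rw [← e, ← Nat.card_prod]
    exact Nat.card_congr (orbitProdStabilizerEquivGroup ↥(S.U x) c)
  -- orbit is no larger than an elation group
  have hW : 1 < Nat.card ↥(S.W c x) := by
    rw [S.card_W hc.symm]
    have := Nat.mul_pos S.D.l_pos (show 0 < S.Q c - 1 by have := S.one_lt_Q c; omega)
    omega
  obtain ⟨⟨h, hh⟩, hh1⟩ := @exists_ne _ (Finite.one_lt_card_iff_nontrivial.mp hW) (1 : ↥(S.W c x))
  have hh1' : h ≠ 1 := fun e => hh1 (Subtype.ext e)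
  obtain ⟨a, -, hac⟩ := S.exists_centre hh.1 hh1'
  have hax : a ∈ S.D.blk x := (hac x).mp hh.2
  have hle : o' ≤ S.Q x := by
    rw [ho', ← S.card_T hax]
    have hsel : ∀ e : orbit ↥(S.U x) c, ∃ u : ↥(S.U x), u • c = (e : X) := fun e => e.2
    choose sel hs using hsel
    refine Nat.card_le_card_of_injective (fun e => ⟨(sel e : G) * h * (sel e : G)⁻¹ * h⁻¹,
      (S.comm_mem hc (sel e).2 hh.1 hh.2).1,
      fun f hf => (S.comm_mem hc (sel e).2 hh.1 hh.2).2 f ((hac f).mpr hf)⟩) fun e e' he => ?_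
    replace he := congrArg Subtype.val he
    have := (S.comm_eq_iff (sel e).2 (sel e').2 hc.symm hh.1 hh1' hh.2).mp he
    exact Subtype.ext ((hs e).symm.trans (this.trans (hs e')))
  -- the blocks of the orbit are disjoint off the axis
  have hdis : o' * (S.D.k - S.D.l) + S.D.k ≤ Fintype.card Ω := by
    have hmeet : ∀ e ∈ orbit ↥(S.U x) c, e ≠ x ∧ S.D.blk x ∩ S.D.blk c ⊆ S.D.blk e := by
      rintro _ ⟨u, rfl⟩
      refine ⟨fun e => hc ?_, S.meet_subset u.2 c⟩
      have := S.fix_axis u.2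
      exact smul_left_cancel (u : G) (e.trans this.symm)
    let O := univ.filter fun e => e ∈ orbit ↥(S.U x) c
    have hd : (O : Set X).PairwiseDisjoint fun e => S.D.blk e \ S.D.blk x := by
      intro e he e' he' hee
      rw [Function.onFun, disjoint_left]
      intro p hp hp'
      rw [mem_sdiff] at hp hp'
      have h1 := hmeet e (mem_filter.mp he).2
      have h2 := hmeet e' (mem_filter.mp he').2
      have hS := S.D.blk_eq_of_inter hee h1.2 h2.2 (by rw [S.D.card_inter _ _ hc.symm])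
      have : p ∈ S.D.blk x ∩ S.D.blk c := hS ▸ mem_inter.mpr ⟨hp.1, hp'.1⟩
      exact hp.2 (mem_inter.mp this).1
    have hcard : (O.biUnion fun e => S.D.blk e \ S.D.blk x).card = o' * (S.D.k - S.D.l) := by
      rw [card_biUnion hd, sum_congr rfl fun e he => show _ = S.D.k - S.D.l by
        rw [card_sdiff, S.D.card_inter _ _ (hmeet e (mem_filter.mp he).2).1.symm, S.D.card_blk],
        sum_const, smul_eq_mul, ho', Nat.card_eq_fintype_card, Fintype.card_subtype]
    have hsub : (O.biUnion fun e => S.D.blk e \ S.D.blk x) ⊆ (S.D.blk x)ᶜ := fun p hp => by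
      obtain ⟨e, -, hpe⟩ := mem_biUnion.mp hp
      exact mem_compl.mpr (mem_sdiff.mp hpe).2
    have := card_le_card hsub
    rw [hcard, card_compl, S.D.card_blk] at this
    have := S.D.k_lt
    omega
  have hcount := S.D.count
  have hl := S.D.l_pos
  have h2 := S.D.two_add_le
  have hQ := S.one_lt_Q x
  obtain ⟨t, ht⟩ : ∃ t, S.Q x = t + 1 := ⟨S.Q x - 1, by omega⟩
  obtain ⟨d, hd⟩ : ∃ d, S.D.k = S.D.l + d := ⟨S.D.k - S.D.l, by omega⟩
  rw [ht, Nat.add_sub_cancel] at horb
  rw [ht] at hle ⊢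
  rw [S.card_U x, ht, Nat.add_sub_cancel]
  rw [hd, Nat.add_sub_cancel_left] at hdis
  -- `o' * l < k`
  have hlt : o' * S.D.l + 1 ≤ S.D.k := by
    have hm := Nat.mul_le_mul_right S.D.l hdis
    have : o' * S.D.l * d + d ≤ S.D.k * d := by rw [hd] at hcount ⊢; nlinarith
    rw [← Nat.succ_mul] at this
    exact Nat.le_of_mul_le_mul_right this (by omega)
  obtain ⟨r, hr⟩ := Nat.exists_eq_add_of_le hlt
  have he : o' = t * r + t + 1 := by rw [hr] at horb; nlinarith
  have hr0 : r = 0 := by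
    by_contra hr0
    have : 1 ≤ t * r := Nat.mul_pos (by omega) (Nat.pos_of_ne_zero hr0)
    omega
  subst hr0
  have ho : o' = t + 1 := by omega
  rw [ho, Nat.add_zero] at hr
  refine ⟨by rw [hr]; ring, ?_⟩
  rw [hr] at hcount ⊢
  exact Nat.eq_of_mul_eq_mul_right hl (by nlinarith)

theorem exists_smul_eq {x : X} {p q : Ω} (hp : p ∉ S.D.blk x) (hq : q ∉ S.D.blk x) :
    ∃ u ∈ S.U x, u • p = q := by
  classical
  haveI := Fintype.ofFinite G
  let P := (univ.filter fun u : G => u ∈ S.U x).image fun u => u • p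
  have hinj : Set.InjOn (fun u : G => u • p) ↑(univ.filter fun u : G => u ∈ S.U x) := by
    intro u hu v hv e
    simp only [coe_filter, Set.mem_ofPred_eq, mem_univ, true_and] at hu hv
    change u • p = v • p at e
    have := S.free x _ (mul_mem (inv_mem hv) hu) p hp (by rw [mul_smul, e, inv_smul_smul])
    exact (inv_mul_eq_one.mp this).symm
  have hsub : P ⊆ (S.D.blk x)ᶜ := fun z hz => by
    obtain ⟨u, hu, rfl⟩ := mem_image.mp hz
    rw [mem_compl]
    intro hz'
    have hu' := (mem_filter.mp hu).2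
    apply hp
    rw [← S.inv u, S.fix_axis hu']
    exact hz'
  have hcard : P.card = (S.D.blk x)ᶜ.card := by
    rw [card_image_of_injOn hinj, card_compl, S.D.card_blk, ← Fintype.card_subtype,
      ← Nat.card_eq_fintype_card]
    have := (S.parameters x).2
    omega
  have hq' : q ∈ P := (eq_of_subset_of_card_le hsub hcard.ge).symm ▸ mem_compl.mpr hq
  obtain ⟨u, hu, rfl⟩ := mem_image.mp hq'
  exact ⟨u, (mem_filter.mp hu).2, rfl⟩

theorem commute {x : X} {u v : G} (hu : u ∈ S.U x) (hv : v ∈ S.U x) : u * v = v * u := by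
  classical
  have hdiff : ∀ {a b : Ω}, a ∈ S.D.blk x → b ∈ S.D.blk x → a ≠ b →
      ∀ {g h : G}, g ∈ S.T x a → h ∈ S.T x b → g * h = h * g := by
    intro a b ha hb hab g h hg hh
    have h1 : g * h * g⁻¹ * h⁻¹ ∈ S.T x b := by
      refine mul_mem ?_ (inv_mem hh)
      simpa [S.fix_axis hg.1, S.axis x g hg.1 b hb] using S.T_conj g hh
    have h2 : g * h * g⁻¹ * h⁻¹ ∈ S.T x a := by
      rw [mul_assoc g h g⁻¹, mul_assoc g]
      refine mul_mem hg ?_
      simpa [S.fix_axis hh.1, S.axis x h hh.1 a ha] using S.T_conj h (inv_mem hg)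
    by_cases e : g * h * g⁻¹ * h⁻¹ = 1
    · rwa [mul_inv_eq_one, mul_inv_eq_iff_eq_mul] at e
    · exact absurd (S.T_unique h2 h1 e) hab
  by_cases hu1 : u = 1
  · simp [hu1]
  by_cases hv1 : v = 1
  · simp [hv1]
  obtain ⟨a, ha, hua⟩ := S.exists_mem_T hu hu1
  obtain ⟨b, hb, hvb⟩ := S.exists_mem_T hv hv1
  by_cases hab : a = b
  · subst hab
    obtain ⟨c, hc, hca⟩ := exists_mem_ne (s := S.D.blk x)
      (by rw [S.D.card_blk]; have := S.D.two_add_le; omega) a
    obtain ⟨w, hw, hw1⟩ := S.exists_ne_T hc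
    have hna : w * v ∉ S.T x a := fun h => by
      have : w ∈ S.T x a := (Subgroup.mul_mem_cancel_right _ hvb).mp h
      exact hca (S.T_unique hw this hw1)
    have hwv1 : w * v ≠ 1 := fun e => hna (e ▸ one_mem _)
    obtain ⟨d, hd, hwvd⟩ := S.exists_mem_T (mul_mem hw.1 hvb.1) hwv1
    have hda : a ≠ d := fun e => hna (e ▸ hwvd)
    have e1 := hdiff ha hd hda hua hwvd
    have e2 := hdiff ha hc hca.symm hua hw
    rw [← mul_assoc, e2, mul_assoc, mul_assoc] at e1
    exact mul_left_cancel e1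
  · exact hdiff ha hb hab hua hvb

/-- An automorphism with axis `x` fixing every block through the point `a` of the axis is an elation
of the system. -/
theorem elation_mem {x : X} {σ : Equiv.Perm X} {π : Equiv.Perm Ω} (h : S.D.Axial x σ π) {a : Ω}
    (ha : a ∈ S.D.blk x) (hfix : ∀ e, a ∈ S.D.blk e → σ e = e) :
    ∃ u ∈ S.T x a, ∀ y, u • y = π y := by
  obtain ⟨p, hp⟩ : ∃ p, p ∉ S.D.blk x := by
    by_contra hcon
    push Not at hcon
    have := card_le_card (fun p _ => hcon p : (univ : Finset Ω) ⊆ S.D.blk x)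
    rw [card_univ, S.D.card_blk] at this
    have := S.D.k_lt
    omega
  -- an automorphism of this kind fixing `p` is trivial
  have triv : ∀ {σ' : Equiv.Perm X} {π' : Equiv.Perm Ω}, S.D.Axial x σ' π' →
      (∀ e, a ∈ S.D.blk e → σ' e = e) → π' p = p → π' = 1 := by
    intro σ' π' h' hfix' hp'
    have hap : a ≠ p := fun e => hp (e ▸ ha)
    obtain ⟨e, he, hex⟩ := exists_mem_ne
      (s := univ.filter fun e => a ∈ S.D.blk e ∧ p ∉ S.D.blk e) (by
        have e := card_filter_add_card_filter_not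
          (s := univ.filter fun e => a ∈ S.D.blk e) (fun e => p ∈ S.D.blk e)
        rw [filter_filter, filter_filter, S.D.card_thru, S.D.card_thru2 _ _ hap] at e
        have := S.D.two_add_le
        omega) x
    obtain ⟨-, hae, hpe⟩ := mem_filter.mp he
    exact h'.eq_one_of_center hp hp' (hfix' e hae) hex hpe
  by_cases hq : π p = p
  · refine ⟨1, one_mem _, fun y => ?_⟩
    rw [triv h hfix hq, one_smul]
    rfl
  have hqx : π p ∉ S.D.blk x := fun hq' => hq (π.injective (h.fix _ hq'))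
  obtain ⟨u, hu, hup⟩ := S.exists_smul_eq hp hqx
  have hu1 : u ≠ 1 := fun e => hq (by rw [← hup, e, one_smul])
  obtain ⟨b, hb, hub⟩ := S.exists_mem_T hu hu1
  have hab : a = b := by
    by_contra hab
    have key : ∀ c ∈ S.D.blk x, ∀ τ : X → X, (∀ e, c ∈ S.D.blk e → τ e = e) →
        (∀ e, p ∈ S.D.blk e → π p ∈ S.D.blk (τ e)) →
        (univ.filter fun e => p ∈ S.D.blk e ∧ c ∈ S.D.blk e) =
          univ.filter fun e => p ∈ S.D.blk e ∧ π p ∈ S.D.blk e := by
      intro c hc τ hτ hτp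
      refine eq_of_subset_of_card_le (fun e he => ?_) (le_of_eq ?_)
      · obtain ⟨-, hpe, hce⟩ := mem_filter.mp he
        refine mem_filter.mpr ⟨mem_univ _, hpe, ?_⟩
        have := hτp e hpe
        rwa [hτ e hce] at this
      · rw [S.D.card_thru2 _ _ (Ne.symm hq), S.D.card_thru2 _ _ fun e : p = c => hp (e ▸ hc)]
    have e1 := key a ha σ hfix fun e he => (h.auto e p).mpr he
    have e2 := key b hb (fun e => u • e) hub.2 fun e he => by rw [← hup]; exact (S.inv u e p).mpr he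
    have hsub : insert x (univ.filter fun e => p ∈ S.D.blk e ∧ a ∈ S.D.blk e) ⊆
        univ.filter fun e => a ∈ S.D.blk e ∧ b ∈ S.D.blk e := by
      intro e he
      rcases mem_insert.mp he with rfl | he'
      · exact mem_filter.mpr ⟨mem_univ _, ha, hb⟩
      · have he'' := he'
        rw [e1, ← e2] at he''
        exact mem_filter.mpr ⟨mem_univ _, (mem_filter.mp he').2.2, (mem_filter.mp he'').2.2⟩
    have := card_le_card hsub
    rw [card_insert_of_notMem (by simp [hp]), S.D.card_thru2 _ _ hab,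
      S.D.card_thru2 _ _ fun e : p = a => hp (e ▸ ha)] at this
    omega
  subst hab
  refine ⟨u, hub, fun y => ?_⟩
  have hax : S.D.Axial x ((toPerm u : Equiv.Perm X)⁻¹ * σ) ((toPerm u : Equiv.Perm Ω)⁻¹ * π) := by
    refine ⟨fun e z => ?_, fun z hz => ?_⟩
    · show u⁻¹ • π z ∈ S.D.blk (u⁻¹ • σ e) ↔ _
      rw [S.inv, h.auto]
    · show u⁻¹ • π z = z
      rw [h.fix z hz, inv_smul_eq_iff, S.axis x u hu z hz]
  have e1 := triv hax (fun e he => by
    show u⁻¹ • σ e = e
    rw [hfix e he, inv_smul_eq_iff, hub.2 e he]) (by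
    show u⁻¹ • π p = p
    rw [← hup, inv_smul_smul])
  have := Equiv.congr_fun e1 y
  exact (inv_smul_eq_iff.mp this).symm

end AxialSys

end Cfsg.Agent.AxialDesign
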