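/-
Coordinates for a partition of a finite abelian group into lines, with all transvections.

* `LinData` : lines, hyperplanes and a monoid of endomorphisms containing all transvections, rigid on
  every hyperplane
* `LinData.Frame` : independent lines with dual hyperplanes, and the homomorphisms realised between them
-/
import Cfsg.Agent.EqLemmas

set_option autoImplicit false

namespace Cfsg.Agent.AxialDesign

open Finset

/-- Lines, hyperplanes and transvections of a finite abelian group. -/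
structure LinData (V : Type*) [AddCommGroup V] where
  lines : Set (AddSubgroup V)
  hyps : Set (AddSubgroup V)
  L : Submonoid (AddMonoid.End V)
  Q : ℕ
  one_lt_Q : 1 < Q
  Q_lt : Q < Nat.card V
  inj : ∀ g ∈ L, Function.Injective (g : V → V)
  cover : ∀ v : V, v ≠ 0 → ∃ T ∈ lines, v ∈ T
  disj : ∀ T ∈ lines, ∀ T' ∈ lines, ∀ v : V, v ≠ 0 → v ∈ T → v ∈ T' → T = T'
  card_line : ∀ T ∈ lines, Nat.card ↥T = Q
  card_hyp : ∀ M ∈ hyps, Nat.card ↥M * Q = Nat.card V
  closed : ∀ M ∈ hyps, ∀ T ∈ lines, ∀ v : V, v ≠ 0 → v ∈ T → v ∈ M → T ≤ M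
  sep : ∀ v : V, v ≠ 0 → ∃ M ∈ hyps, v ∉ M
  map_line : ∀ g ∈ L, ∀ T ∈ lines, ∃ T' ∈ lines, ∀ v ∈ T, g v ∈ T'
  map_hyp : ∀ g ∈ L, ∀ M ∈ hyps, ∃ M' ∈ hyps, ∀ v ∈ M, g v ∈ M'
  transvection : ∀ M ∈ hyps, ∀ T ∈ lines, T ≤ M → ∀ v : V, v ∉ M → ∀ z ∈ T,
    ∃ g ∈ L, (∀ w ∈ M, g w = w) ∧ g v = v + z ∧ ∀ w, g w - w ∈ T
  rigid : ∀ g ∈ L, ∀ M ∈ hyps, ∀ v : V, v ∉ M → (∀ w ∈ M, g w = w) → g v = v → ∀ w, g w = w

variable {V : Type*} [AddCommGroup V] [Finite V]

namespace LinData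

variable (d : LinData V)

omit [Finite V] in
theorem exists_ne_zero {T : AddSubgroup V} (hT : T ∈ d.lines) : ∃ x ∈ T, x ≠ 0 := by
  by_contra h
  push Not at h
  have hT' : T = ⊥ := (AddSubgroup.eq_bot_iff_forall _).mpr h
  have := d.card_line T hT
  rw [hT', AddSubgroup.card_bot] at this
  have := d.one_lt_Q
  omega

omit [Finite V] in
theorem inter_zero {M T : AddSubgroup V} (hM : M ∈ d.hyps) (hT : T ∈ d.lines) (hTM : ¬T ≤ M) {v : V}
    (h1 : v ∈ T) (h2 : v ∈ M) : v = 0 := by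
  by_contra hv
  exact hTM (d.closed M hM T hT v hv h1 h2)

theorem decomp {M T : AddSubgroup V} (hM : M ∈ d.hyps) (hT : T ∈ d.lines) (hTM : ¬T ≤ M) (v : V) :
    ∃ t ∈ T, v - t ∈ M := by
  have hinj : Function.Injective fun q : ↥M × ↥T => (q.1 : V) + q.2 := by
    rintro ⟨m, t⟩ ⟨m', t'⟩ e
    simp only at e
    have h : (t : V) - t' = m' - m := by rw [sub_eq_sub_iff_add_eq_add, add_comm, e]
    have h0 := d.inter_zero hM hT hTM (sub_mem t.2 t'.2) (h ▸ sub_mem m'.2 m.2)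
    rw [sub_eq_zero] at h0
    rw [h0, add_left_inj] at e
    exact Prod.ext (Subtype.ext e) (Subtype.ext h0)
  have hbij := hinj.bijective_of_nat_card_le
    (by rw [Nat.card_prod, d.card_line T hT, d.card_hyp M hM])
  obtain ⟨⟨m, t⟩, e⟩ := hbij.2 v
  simp only at e
  exact ⟨t, t.2, by rw [← e, add_sub_cancel_right]; exact m.2⟩

/-- A frame inside a subgroup which is a union of lines. -/
theorem exists_frame_aux : ∀ (N : ℕ) (A : AddSubgroup V), Nat.card ↥A ≤ N →
    (∀ T ∈ d.lines, ∀ v : V, v ≠ 0 → v ∈ T → v ∈ A → T ≤ A) →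
    ∃ (n : ℕ) (T M : Fin n → AddSubgroup V), (∀ i, T i ∈ d.lines) ∧ (∀ i, M i ∈ d.hyps) ∧
      (∀ i j, T i ≤ M j ↔ i ≠ j) ∧ (∀ i, T i ≤ A) ∧ ∀ v ∈ A, (∀ i, v ∈ M i) → v = 0 := by
  intro N
  induction N with
  | zero =>
    intro A hA
    have := Nat.card_pos (α := ↥A)
    omega
  | succ N ih =>
    intro A hA hcl
    by_cases h0 : A = ⊥
    · subst h0
      exact ⟨0, Fin.elim0, Fin.elim0, fun i => i.elim0, fun i => i.elim0, fun i => i.elim0,
        fun i => i.elim0, fun v hv _ => AddSubgroup.mem_bot.mp hv⟩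
    obtain ⟨v, hvA, hv0⟩ : ∃ v ∈ A, v ≠ 0 := by
      by_contra h
      push Not at h
      exact h0 ((AddSubgroup.eq_bot_iff_forall _).mpr h)
    obtain ⟨M0, hM0, hvM⟩ := d.sep v hv0
    have hlt : Nat.card ↥(A ⊓ M0) < Nat.card ↥A := by
      refine lt_of_le_of_ne (AddSubgroup.card_le_of_le inf_le_left) fun e => hvM ?_
      have := AddSubgroup.eq_of_le_of_card_ge (H := A ⊓ M0) inf_le_left e.ge
      rw [← this] at hvA
      exact hvA.2
    obtain ⟨n, T, M, hT, hM, hTM, hTA, hzero⟩ := ih (A ⊓ M0) (by omega)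
      (fun T hT w hw hwT hwA =>
        le_inf (hcl T hT w hw hwT hwA.1) (d.closed M0 hM0 T hT w hw hwT hwA.2))
    choose t ht htm using fun i => d.decomp (hM i) (hT i) (fun h => (hTM i i).mp h rfl) v
    set w := v - ∑ i, t i with hw
    have hwM : ∀ i, w ∈ M i := fun i => by
      rw [hw, ← add_sum_erase _ _ (mem_univ i), ← sub_sub]
      exact sub_mem (htm i) (sum_mem fun j hj => (hTM j i).mpr (ne_of_mem_erase hj) (ht j))
    have hwA : w ∈ A := sub_mem hvA (sum_mem fun j _ => (hTA j (ht j)).1)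
    have hwM0 : w ∉ M0 := fun h => hvM (by
      have h2 : ∑ i, t i ∈ M0 := sum_mem fun j _ => (hTA j (ht j)).2
      simpa [hw] using add_mem h h2)
    have hw0 : w ≠ 0 := fun h => hwM0 (h ▸ zero_mem _)
    obtain ⟨T0, hT0, hwT⟩ := d.cover w hw0
    refine ⟨n + 1, Fin.cons T0 T, Fin.cons M0 M, Fin.cases hT0 hT, Fin.cases hM0 hM, ?_, ?_, ?_⟩
    · intro i j
      cases i using Fin.cases with
      | zero =>
        cases j using Fin.cases with
        | zero =>
          simp only [Fin.cons_zero, ne_eq, not_true_eq_false, iff_false]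
          exact fun h => hwM0 (h hwT)
        | succ j =>
          simp only [Fin.cons_zero, Fin.cons_succ, ne_eq, (Fin.succ_ne_zero j).symm, not_false_eq_true,
            iff_true]
          exact d.closed _ (hM j) _ hT0 w hw0 hwT (hwM j)
      | succ i =>
        cases j using Fin.cases with
        | zero =>
          simp only [Fin.cons_zero, Fin.cons_succ, ne_eq, Fin.succ_ne_zero, not_false_eq_true, iff_true]
          exact fun z hz => (hTA i hz).2
        | succ j => simpa [Fin.succ_inj] using hTM i j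
    · intro i
      cases i using Fin.cases with
      | zero => exact hcl T0 hT0 w hw0 hwT hwA
      | succ i => exact fun z hz => (hTA i hz).1
    · intro z hz hzM
      exact hzero z ⟨hz, by simpa using hzM 0⟩ fun i => by simpa using hzM i.succ

/-- Independent lines and their dual hyperplanes. -/
structure Frame (n : ℕ) where
  T : Fin n → AddSubgroup V
  M : Fin n → AddSubgroup V
  hT : ∀ i, T i ∈ d.lines
  hM : ∀ i, M i ∈ d.hyps
  dual : ∀ i j, T i ≤ M j ↔ i ≠ j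
  zero : ∀ v : V, (∀ i, v ∈ M i) → v = 0

theorem exists_frame : ∃ n, Nonempty (d.Frame n) := by
  obtain ⟨n, T, M, h1, h2, h3, -, h5⟩ :=
    d.exists_frame_aux _ ⊤ le_rfl (fun T _ _ _ _ _ => le_top)
  exact ⟨n, ⟨⟨T, M, h1, h2, h3, fun v => h5 v trivial⟩⟩⟩

namespace Frame

variable {d} {n : ℕ} (F : d.Frame n)

/-- The sum of the lines of a frame. -/
def sumHom : (∀ i, ↥(F.T i)) →+ V where
  toFun v := ∑ i, (v i : V)
  map_zero' := by simp
  map_add' u v := by simp [sum_add_distrib]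

omit [Finite V] in
theorem sumHom_mem {v : ∀ i, ↥(F.T i)} {i : Fin n} : F.sumHom v - v i ∈ F.M i := by
  show (∑ j, (v j : V)) - v i ∈ F.M i
  rw [← add_sum_erase _ _ (mem_univ i), add_sub_cancel_left]
  exact sum_mem fun j hj => (F.dual j i).mpr (ne_of_mem_erase hj) (v j).2

theorem sumHom_bijective : Function.Bijective F.sumHom := by
  constructor
  · rw [injective_iff_map_eq_zero]
    intro v hv
    funext i
    have h := F.sumHom_mem (v := v) (i := i)
    rw [hv, zero_sub] at h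
    exact Subtype.ext (d.inter_zero (F.hM i) (F.hT i) (fun h => (F.dual i i).mp h rfl) (v i).2
      (neg_mem_iff.mp h))
  · intro v
    choose t ht htm using fun i =>
      d.decomp (F.hM i) (F.hT i) (fun h => (F.dual i i).mp h rfl) v
    refine ⟨fun i => ⟨t i, ht i⟩, sub_eq_zero.mp (F.zero _ fun i => ?_)⟩
    have h := F.sumHom_mem (v := fun i => ⟨t i, ht i⟩) (i := i)
    have := sub_mem h (htm i)
    simpa using this

/-- The decomposition along a frame. -/
noncomputable def iso : (∀ i, ↥(F.T i)) ≃+ V := AddEquiv.ofBijective F.sumHom F.sumHom_bijective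

theorem iso_single (i : Fin n) (x : ↥(F.T i)) : F.iso (Pi.single i x) = x := by
  show ∑ j, ((Pi.single i x : ∀ j, ↥(F.T j)) j : V) = x
  rw [Finset.sum_eq_single i (fun j _ hj => by simp [hj]) (by simp), Pi.single_eq_same]

theorem iso_mem_iff {v : ∀ i, ↥(F.T i)} {i : Fin n} : F.iso v ∈ F.M i ↔ v i = 0 := by
  have h : F.iso v - v i ∈ F.M i := F.sumHom_mem
  constructor
  · intro hv
    exact Subtype.ext (d.inter_zero (F.hM i) (F.hT i) (fun h => (F.dual i i).mp h rfl) (v i).2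
      (by simpa using sub_mem hv h))
  · intro hv
    simpa [hv] using h

/-- A homomorphism of frame lines realised by a transvection. -/
def Real (i j : Fin n) (φ : ↥(F.T i) →+ ↥(F.T j)) : Prop :=
  ∃ g ∈ d.L, ∀ v, g (F.iso v) = F.iso (v + Pi.single j (φ (v i)))

theorem real_zero (i j : Fin n) : F.Real i j 0 := ⟨1, one_mem _, fun v => by simp⟩

theorem real_add {i j : Fin n} (hij : i ≠ j) {φ ψ : ↥(F.T i) →+ ↥(F.T j)} (h1 : F.Real i j φ)
    (h2 : F.Real i j ψ) : F.Real i j (φ + ψ) := by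
  obtain ⟨g, hg, hgv⟩ := h1
  obtain ⟨h, hh, hhv⟩ := h2
  refine ⟨g * h, mul_mem hg hh, fun v => ?_⟩
  show g (h (F.iso v)) = _
  rw [hhv, hgv]
  simp only [Pi.add_apply, Pi.single_eq_of_ne hij, add_zero, AddMonoidHom.add_apply, Pi.single_add]
  abel_nf

theorem real_nsmul {i j : Fin n} (hij : i ≠ j) {φ : ↥(F.T i) →+ ↥(F.T j)} (h : F.Real i j φ) (k : ℕ) :
    F.Real i j (k • φ) := by
  induction k with
  | zero => simpa using F.real_zero i j
  | succ k ih => rw [succ_nsmul]; exact F.real_add hij ih h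

theorem real_neg {i j : Fin n} (hij : i ≠ j) {φ : ↥(F.T i) →+ ↥(F.T j)} (h : F.Real i j φ) :
    F.Real i j (-φ) := by
  haveI : Finite (↥(F.T i) →+ ↥(F.T j)) := Finite.of_injective _ DFunLike.coe_injective
  have : (addOrderOf φ - 1) • φ = -φ := by
    rw [eq_neg_iff_add_eq_zero, ← succ_nsmul, Nat.sub_add_cancel (addOrderOf_pos φ),
      addOrderOf_nsmul_eq_zero]
  rw [← this]
  exact F.real_nsmul hij h _

theorem real_exists {i j : Fin n} (hij : i ≠ j) {x : ↥(F.T i)} (hx : x ≠ 0) (z : ↥(F.T j)) :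
    ∃ φ, F.Real i j φ ∧ φ x = z := by
  have hxM : (x : V) ∉ F.M i := fun h => hx (Subtype.ext
    (d.inter_zero (F.hM i) (F.hT i) (fun h => (F.dual i i).mp h rfl) x.2 h))
  obtain ⟨g, hg, hgM, hgx, hgT⟩ := d.transvection _ (F.hM i) _ (F.hT j) ((F.dual j i).mpr hij.symm)
    _ hxM z z.2
  let φ : ↥(F.T i) →+ ↥(F.T j) := AddMonoidHom.mk' (fun y => ⟨g y - y, hgT y⟩) fun a b => by
    apply Subtype.ext
    simp only [AddSubgroup.coe_add, map_add]
    abel
  refine ⟨φ, ⟨g, hg, fun v => ?_⟩, Subtype.ext (show g x - x = z by rw [hgx, add_sub_cancel_left])⟩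
  have hv : v = (v - Pi.single i (v i)) + Pi.single i (v i) := (sub_add_cancel _ _).symm
  have h0 : F.iso (v - Pi.single i (v i)) ∈ F.M i := F.iso_mem_iff.mpr (by simp)
  conv_lhs => rw [hv]
  rw [map_add, map_add, hgM _ h0, map_add, iso_single, iso_single, map_sub, iso_single]
  show F.iso v - (v i : V) + g (v i) = F.iso v + (g (v i) - v i)
  abel

theorem real_unique {i j : Fin n} (hij : i ≠ j) {φ ψ : ↥(F.T i) →+ ↥(F.T j)} (h1 : F.Real i j φ)
    (h2 : F.Real i j ψ) {x : ↥(F.T i)} (hx : x ≠ 0) (e : φ x = ψ x) : φ = ψ := by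
  obtain ⟨g, hg, hgv⟩ := F.real_add hij h1 (F.real_neg hij h2)
  have hxM : F.iso (Pi.single i x) ∉ F.M i := by
    rw [F.iso_mem_iff, Pi.single_eq_same]; exact hx
  have hid := d.rigid g hg _ (F.hM i) _ hxM (fun w hw => by
    obtain ⟨v, rfl⟩ := F.iso.surjective w
    rw [hgv, F.iso_mem_iff.mp hw, map_zero, Pi.single_zero, add_zero]) (by
    rw [hgv, Pi.single_eq_same]
    simp [e])
  ext1 y
  have hy := hid (F.iso (Pi.single i y))
  rw [hgv, Pi.single_eq_same, F.iso.injective.eq_iff, add_eq_left] at hy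
  have := congrFun hy j
  simpa [← sub_eq_add_neg, sub_eq_zero] using this

theorem card_real {i j : Fin n} (hij : i ≠ j) :
    Nat.card {φ : ↥(F.T i) →+ ↥(F.T j) // F.Real i j φ} = d.Q := by
  obtain ⟨x, hxT, hx⟩ := d.exists_ne_zero (F.hT i)
  have hx' : (⟨x, hxT⟩ : ↥(F.T i)) ≠ 0 := fun h => hx (congrArg Subtype.val h)
  rw [← d.card_line _ (F.hT j)]
  refine Nat.card_eq_of_bijective (fun φ => φ.1 ⟨x, hxT⟩) ⟨fun φ ψ e => ?_, fun z => ?_⟩
  · exact Subtype.ext (F.real_unique hij φ.2 ψ.2 hx' e)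
  · obtain ⟨φ, h, e⟩ := F.real_exists hij hx' z
    exact ⟨⟨φ, h⟩, e⟩

theorem real_inv {i j : Fin n} (hij : i ≠ j) {φ : ↥(F.T i) →+ ↥(F.T j)} (h : F.Real i j φ) (h0 : φ ≠ 0) :
    ∃ ψ, F.Real j i ψ ∧ (∀ x, ψ (φ x) = x) ∧ ∀ y, φ (ψ y) = y := by
  have hinj : Function.Injective φ := (injective_iff_map_eq_zero _).mpr fun x hx => by
    by_contra hne
    exact h0 (F.real_unique hij h (F.real_zero i j) hne (by simpa using hx))
  have hsurj := (hinj.bijective_of_nat_card_le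
    (by rw [d.card_line _ (F.hT i), d.card_line _ (F.hT j)])).2
  obtain ⟨x, hxT, hx⟩ := d.exists_ne_zero (F.hT i)
  have hx' : (⟨x, hxT⟩ : ↥(F.T i)) ≠ 0 := fun h => hx (congrArg Subtype.val h)
  obtain ⟨ψ, hψ, hψx⟩ := F.real_exists hij.symm
    (x := φ ⟨x, hxT⟩) (fun e => hx' (hinj (e.trans (map_zero φ).symm))) ⟨x, hxT⟩
  refine ⟨ψ, hψ, ?_⟩
  obtain ⟨g, hg, hgv⟩ := h
  obtain ⟨g', hg', hgv'⟩ := hψ
  obtain ⟨Λ, hΛ, hgΛ⟩ := d.map_line g hg _ (F.hT i)
  obtain ⟨Λ', hΛ', hgΛ'⟩ := d.map_line g' hg' _ (F.hT j)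
  have e1 : ∀ z : ↥(F.T i), g z = F.iso (Pi.single i z + Pi.single j (φ z)) := fun z => by
    conv_lhs => rw [← F.iso_single i z]
    rw [hgv, Pi.single_eq_same]
  have e2 : ∀ y : ↥(F.T j), g' y = F.iso (Pi.single i (ψ y) + Pi.single j y) := fun y => by
    conv_lhs => rw [← F.iso_single j y]
    rw [hgv', Pi.single_eq_same, add_comm]
  have e3 : g' (φ ⟨x, hxT⟩ : ↥(F.T j)) = g (⟨x, hxT⟩ : ↥(F.T i)) := by rw [e1, e2, hψx]
  have hΛeq : Λ = Λ' := d.disj _ hΛ _ hΛ' (g (⟨x, hxT⟩ : ↥(F.T i)))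
    (fun e => hx (d.inj g hg (e.trans (map_zero g).symm))) (hgΛ _ hxT) (e3 ▸ hgΛ' _ (φ _).2)
  have hb := (Function.Injective.bijective_of_nat_card_le
    (f := fun y : ↥(F.T j) => (⟨g' y, hgΛ' y y.2⟩ : ↥Λ'))
    (fun a b e => Subtype.ext (d.inj g' hg' (congrArg Subtype.val e)))
    (by rw [d.card_line _ hΛ', d.card_line _ (F.hT j)])).2
  have key : ∀ z, ψ (φ z) = z := fun z => by
    obtain ⟨y, hy⟩ := hb ⟨g z, hΛeq ▸ hgΛ z z.2⟩
    have hy' : g' y = g z := congrArg Subtype.val hy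
    rw [e1, e2, F.iso.injective.eq_iff] at hy'
    have hi := congrFun hy' i
    have hj := congrFun hy' j
    simp [hij, hij.symm] at hi hj
    rw [← hj]
    exact hi
  refine ⟨key, fun y => ?_⟩
  obtain ⟨z, rfl⟩ := hsurj y
  rw [key]

theorem real_comp {i j l : Fin n} (hij : i ≠ j) (hjl : j ≠ l) (hil : i ≠ l) {φ : ↥(F.T i) →+ ↥(F.T j)}
    {ψ : ↥(F.T j) →+ ↥(F.T l)} (h1 : F.Real i j φ) (h2 : F.Real j l ψ) : F.Real i l (ψ.comp φ) := by
  obtain ⟨a, ha, hav⟩ := h1
  obtain ⟨b, hb, hbv⟩ := h2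
  obtain ⟨a', ha', hav'⟩ := F.real_neg hij ⟨a, ha, hav⟩
  obtain ⟨b', hb', hbv'⟩ := F.real_neg hjl ⟨b, hb, hbv⟩
  refine ⟨b * (a * (b' * a')), mul_mem hb (mul_mem ha (mul_mem hb' ha')), fun v => ?_⟩
  show b (a (b' (a' (F.iso v)))) = _
  rw [hav', hbv', hav, hbv]
  congr 1
  simp [hij, hij.symm, hjl, hjl.symm, hil, hil.symm, map_add, map_neg, Pi.single_add, Pi.single_neg]
  abel

theorem real_sandwich {i j : Fin n} (hij : i ≠ j) {a c : ↥(F.T i) →+ ↥(F.T j)}
    {a' : ↥(F.T j) →+ ↥(F.T i)} (ha : F.Real i j a) (ha' : F.Real j i a') (hc : F.Real i j c)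
    (h1 : ∀ x, a' (a x) = x) (h2 : ∀ y, a (a' y) = y) :
    F.Real j i (-(a'.comp (c.comp a'))) := by
  obtain ⟨A, hA, hAv⟩ := ha
  obtain ⟨A', hA', hAv'⟩ := F.real_neg hij ⟨A, hA, hAv⟩
  obtain ⟨B, hB, hBv⟩ := ha'
  obtain ⟨B', hB', hBv'⟩ := F.real_neg hij.symm ⟨B, hB, hBv⟩
  obtain ⟨C, hC, hCv⟩ := hc
  refine ⟨A * (B' * (A * (C * (A' * (B * A'))))), ?_, fun v => ?_⟩
  · exact mul_mem hA (mul_mem hB' (mul_mem hA (mul_mem hC (mul_mem hA' (mul_mem hB hA')))))
  show A (B' (A (C (A' (B (A' (F.iso v))))))) = _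
  let mk : ↥(F.T i) → ↥(F.T j) → ∀ l, ↥(F.T l) := fun p q => Function.update (Function.update v i p) j q
  have mi : ∀ p q, mk p q i = p := fun p q => by simp [mk, hij]
  have mj : ∀ p q, mk p q j = q := fun p q => by simp [mk]
  have addj : ∀ p q r, mk p q + Pi.single j r = mk p (q + r) := fun p q r => by
    funext l
    by_cases hl : l = j
    · subst hl; simp [mk]
    · simp [mk, hl]
  have addi : ∀ p q r, mk p q + Pi.single i r = mk (p + r) q := fun p q r => by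
    funext l
    by_cases hl : l = i
    · subst hl; simp [mk, hij]
    · by_cases hl' : l = j
      · subst hl'; simp [mk, hl]
      · simp [mk, hl, hl']
  have hv : v = mk (v i) (v j) := by simp [mk]
  conv_lhs => rw [hv, hAv', mi, addj, hBv, mj, addi, hAv', mi, addj, hCv, mi, addj, hAv, mi, addj,
    hBv', mj, addi, hAv, mi, addj]
  congr 1
  funext l
  simp only [AddMonoidHom.neg_apply, AddMonoidHom.comp_apply, map_add, map_neg, h1, h2]
  by_cases hl : l = i
  · subst hl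
    simp only [mi, Pi.add_apply, Pi.single_eq_same]
    abel
  · by_cases hl' : l = j
    · subst hl'
      simp only [mj, Pi.add_apply, Pi.single_eq_of_ne hl, add_zero]
      abel
    · simp [mk, hl, hl']

end Frame

end LinData

end Cfsg.Agent.AxialDesign
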