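/-
Coordinates for a partition of a finite abelian group into lines, with all transvections.

* `LinData.exists_coordinates` : such data are the lines and hyperplanes of a vector space over a
  finite field
-/
import Cfsg.Agent.Lib.AxialDesign.LinearFrame
import Cfsg.Agent.Lib.OstromWagner.Field
import Cfsg.Agent.Lib.SLGen.Cycle

set_option autoImplicit false

namespace Cfsg.Agent.AxialDesign

open Finset

variable {V : Type*} [AddCommGroup V] [Finite V]

namespace LinData

variable (d : LinData V)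

namespace Frame

variable {d} {n : ℕ} (F : d.Frame n)

/-- A homomorphism after an endomorphism. -/
def after {A B : Type*} [AddCommGroup A] [AddCommGroup B] (f : A →+ B) (s : AddMonoid.End A) : A →+ B :=
  AddMonoidHom.mk' (fun x => f (s x)) fun x y => by simp

theorem after_apply {A B : Type*} [AddCommGroup A] [AddCommGroup B] (f : A →+ B) (s : AddMonoid.End A)
    (x : A) : after f s x = f (s x) := rfl

/-- An endomorphism from two homomorphisms. -/
def backForth {A B : Type*} [AddCommGroup A] [AddCommGroup B] (g : B →+ A) (f : A →+ B) :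
    AddMonoid.End A :=
  AddMonoidHom.mk' (fun x => g (f x)) fun x y => by simp

theorem backForth_apply {A B : Type*} [AddCommGroup A] [AddCommGroup B] (g : B →+ A) (f : A →+ B)
    (x : A) : backForth g f x = g (f x) := rfl

theorem exists_scalars (i₀ i₁ : Fin n) (h01 : i₀ ≠ i₁) :
    ∃ (K : Type) (_ : Field K) (_ : Fintype K) (κ : ∀ i, K ≃+ ↥(F.T i)), Fintype.card K = d.Q ∧
      ∀ i j, i ≠ j → ∀ r : K, ∃ φ, F.Real i j φ ∧ ∀ x : K, φ (κ i x) = κ j (r * x) := by
  classical
  obtain ⟨t, htT, ht⟩ := d.exists_ne_zero (F.hT i₀)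
  let t₀ : ↥(F.T i₀) := ⟨t, htT⟩
  have ht₀ : t₀ ≠ 0 := fun h => ht (congrArg Subtype.val h)
  obtain ⟨t₁', ht₁T, ht₁⟩ := d.exists_ne_zero (F.hT i₁)
  let t₁ : ↥(F.T i₁) := ⟨t₁', ht₁T⟩
  have ht₁' : t₁ ≠ 0 := fun h => ht₁ (congrArg Subtype.val h)
  obtain ⟨a, ha, hat⟩ := F.real_exists h01 ht₀ t₁
  have ha0 : a ≠ 0 := fun h => ht₁' (by rw [← hat, h, AddMonoidHom.zero_apply])
  obtain ⟨a', ha', ha'a, haa'⟩ := F.real_inv h01 ha ha0
  let S : AddSubgroup (AddMonoid.End ↥(F.T i₀)) :=
    { carrier := {s | F.Real i₀ i₁ (after a s)}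
      add_mem' := fun {s s'} hs hs' => by
        have e : after a (s + s') = after a s + after a s' := AddMonoidHom.ext fun x => map_add a _ _
        show F.Real i₀ i₁ (after a (s + s'))
        rw [e]
        exact F.real_add h01 hs hs'
      zero_mem' := by
        have e : after a (0 : AddMonoid.End ↥(F.T i₀)) = 0 := AddMonoidHom.ext fun x => map_zero a
        show F.Real i₀ i₁ (after a 0)
        rw [e]
        exact F.real_zero _ _
      neg_mem' := fun {s} hs => by
        have e : after a (-s) = -after a s := AddMonoidHom.ext fun x => map_neg a _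
        show F.Real i₀ i₁ (after a (-s))
        rw [e]
        exact F.real_neg h01 hs }
  have hSmem : ∀ s : AddMonoid.End ↥(F.T i₀), s ∈ S ↔ F.Real i₀ i₁ (after a s) := fun s => Iff.rfl
  have hinv : OstromWagner.InvSet S := by
    refine ⟨?_, fun s hs hs0 => ?_⟩
    · rw [hSmem]
      convert ha using 1
      exact AddMonoidHom.ext fun x => rfl
    · have hne : after a s ≠ 0 := fun h => hs0 (by
        ext1 x
        have := DFunLike.congr_fun h x
        rw [after_apply, AddMonoidHom.zero_apply] at this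
        rw [← ha'a (s x), this, map_zero]
        rfl)
      obtain ⟨ψ, hψ, hψ1, hψ2⟩ := F.real_inv h01 ((hSmem s).mp hs) hne
      have hsw := F.real_neg h01 (F.real_sandwich h01.symm ha' ha hψ haa' ha'a)
      refine ⟨backForth ψ a, ?_, ?_, ?_⟩
      · rw [hSmem]
        convert hsw using 1
        exact AddMonoidHom.ext fun x => by simp [after_apply, backForth_apply]
      · ext1 x
        have h := hψ2 (a x)
        rw [after_apply] at h
        show s (ψ (a x)) = x
        rw [← ha'a (s (ψ (a x))), h, ha'a]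
      · ext1 x
        exact hψ1 x
  let K₀ : Subring (AddMonoid.End ↥(F.T i₀)) :=
    { carrier := S
      mul_mem' := fun hx hy => by
        haveI : Nontrivial ↥(F.T i₀) := ⟨t₀, 0, ht₀⟩
        exact (hinv.mul_mem_comm hx hy).1
      one_mem' := hinv.one_mem
      add_mem' := S.add_mem
      zero_mem' := S.zero_mem
      neg_mem' := S.neg_mem }
  haveI : Nontrivial ↥(F.T i₀) := ⟨t₀, 0, ht₀⟩
  haveI : Finite (AddMonoid.End ↥(F.T i₀)) :=
    Finite.of_injective (fun f : AddMonoid.End ↥(F.T i₀) => (f : ↥(F.T i₀) → ↥(F.T i₀)))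
      DFunLike.coe_injective
  let _ : CommRing ↥K₀ :=
    { K₀.toRing with mul_comm := fun x y => Subtype.ext (hinv.mul_mem_comm x.2 y.2).2 }
  have hfield : IsField ↥K₀ := ⟨exists_pair_ne _, mul_comm, fun {x} hx => by
    obtain ⟨y, hy, hxy, -⟩ := hinv.inv_mem x x.2 fun e => hx (Subtype.ext e)
    exact ⟨⟨y, hy⟩, Subtype.ext hxy⟩⟩
  let _ : Field ↥K₀ := hfield.toField
  let _ : Fintype (Shrink.{0} ↥K₀) := Fintype.ofFinite _
  let ι : Shrink.{0} ↥K₀ ≃+* ↥K₀ := (equivShrink.{0} ↥K₀).symm.ringEquiv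
  let act : Shrink.{0} ↥K₀ → AddMonoid.End ↥(F.T i₀) := fun r => (ι r).1
  have act_mem : ∀ r, act r ∈ S := fun r => (ι r).2
  have act_mul : ∀ r r' x, act (r * r') x = act r (act r' x) := fun r r' x => by
    simp only [act, map_mul]; rfl
  have act_one : ∀ x, act 1 x = x := fun x => by simp only [act, map_one]; rfl
  have act_add : ∀ r r' x, act (r + r') x = act r x + act r' x := fun r r' x => by
    simp only [act, map_add]; rfl
  -- evaluation at `t₀`
  let ev : Shrink.{0} ↥K₀ → ↥(F.T i₀) := fun r => act r t₀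
  have hev : Function.Bijective ev := by
    refine Function.Injective.bijective_of_nat_card_le ?_ (le_of_eq ?_)
    · intro r r' e
      apply ι.injective
      apply Subtype.ext
      refine sub_eq_zero.mp (hinv.eq_zero_of_apply (S.sub_mem (act_mem r) (act_mem r')) ht₀ ?_)
      exact sub_eq_zero.mpr e
    · rw [d.card_line _ (F.hT i₀), ← F.card_real h01, Nat.card_congr ι.toEquiv]
      have hb : ∀ φ : ↥(F.T i₀) →+ ↥(F.T i₁), after a (backForth a' φ) = φ :=
        fun φ => AddMonoidHom.ext fun x => haa' (φ x)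
      refine Nat.card_congr
        { toFun := fun φ => ⟨backForth a' φ.1, (hSmem _).mpr ((hb φ.1).symm ▸ φ.2)⟩
          invFun := fun s => ⟨after a s.1, s.2⟩
          left_inv := fun φ => Subtype.ext (hb φ.1)
          right_inv := fun s => Subtype.ext (AddMonoidHom.ext fun x => ha'a (s.1 x)) }
  -- identifications of the lines of the frame
  have hid : ∀ i : Fin n, ∃ c : ↥(F.T i₀) ≃+ ↥(F.T i), (i ≠ i₀ → ∀ r, ∃ φ, F.Real i₀ i φ ∧
      ∀ x, φ x = c (act r x)) ∧ (i = i₀ → ∀ x, (c x : V) = x) := by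
    intro i
    by_cases h0 : i = i₀
    · subst h0
      exact ⟨AddEquiv.refl _, fun h => absurd rfl h, fun _ x => rfl⟩
    let A : ↥(F.T i₀) ≃+ ↥(F.T i₁) :=
      { a with invFun := a', left_inv := ha'a, right_inv := haa' }
    by_cases h1 : i = i₁
    · subst h1
      exact ⟨A, fun _ r => ⟨after a (act r), (hSmem _).mp (act_mem r), fun x => rfl⟩,
        fun h => absurd h h0⟩
    obtain ⟨u, huT, hu⟩ := d.exists_ne_zero (F.hT i)
    obtain ⟨b, hb, hbt⟩ := F.real_exists (Ne.symm h1) ht₁' ⟨u, huT⟩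
    have hb0 : b ≠ 0 := fun h => hu (by
      have := hbt.symm.trans (DFunLike.congr_fun h t₁)
      exact congrArg Subtype.val this)
    obtain ⟨b', -, hb1, hb2⟩ := F.real_inv (Ne.symm h1) hb hb0
    let B : ↥(F.T i₁) ≃+ ↥(F.T i) := { b with invFun := b', left_inv := hb1, right_inv := hb2 }
    refine ⟨A.trans B, fun hne r => ⟨b.comp (after a (act r)), ?_, fun x => rfl⟩, fun h => absurd h h0⟩
    exact F.real_comp h01 (Ne.symm h1) hne.symm ((hSmem _).mp (act_mem r)) hb
  choose c hc hc0 using hid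
  have hc0' : ∀ x, c i₀ x = x := fun x => Subtype.ext (hc0 i₀ rfl x)
  have hback : ∀ i, i ≠ i₀ → ∀ r, ∃ φ, F.Real i i₀ φ ∧ ∀ x, φ (c i x) = act r x := by
    intro i hi r
    by_cases hr : r = 0
    · refine ⟨0, F.real_zero _ _, fun x => ?_⟩
      simp only [hr, act, map_zero]; rfl
    obtain ⟨φ, hφ, hφx⟩ := hc i hi r⁻¹
    have hne : φ ≠ 0 := fun h => ht₀ (by
      have := hφx (act r t₀)
      rw [h, AddMonoidHom.zero_apply, ← act_mul, inv_mul_cancel₀ hr, act_one] at this
      exact (c i).injective (this.symm.trans (map_zero _).symm))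
    obtain ⟨ψ, hψ, hψ1, -⟩ := F.real_inv (Ne.symm hi) hφ hne
    refine ⟨ψ, hψ, fun x => ?_⟩
    have := hψ1 (act r x)
    rwa [hφx, ← act_mul, inv_mul_cancel₀ hr, act_one] at this
  let κ : ∀ i, Shrink.{0} ↥K₀ ≃+ ↥(F.T i) := fun i =>
    (AddEquiv.ofBijective (AddMonoidHom.mk' ev fun r r' => act_add r r' t₀) hev).trans (c i)
  have hκ : ∀ i r, κ i r = c i (act r t₀) := fun i r => rfl
  refine ⟨Shrink.{0} ↥K₀, inferInstance, inferInstance, κ, ?_, fun i j hij r => ?_⟩
  · rw [← Nat.card_eq_fintype_card, Nat.card_eq_of_bijective ev hev, d.card_line _ (F.hT i₀)]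
  by_cases hi : i = i₀
  · subst hi
    obtain ⟨φ, hφ, hφx⟩ := hc j (Ne.symm hij) r
    refine ⟨φ, hφ, fun x => ?_⟩
    rw [hκ, hκ, hc0', hφx, act_mul]
  obtain ⟨φ, hφ, hφx⟩ := hback i hi r
  by_cases hj : j = i₀
  · subst hj
    refine ⟨φ, hφ, fun x => ?_⟩
    rw [hκ, hκ, hc0', hφx, act_mul]
  obtain ⟨ψ, hψ, hψx⟩ := hc j hj 1
  refine ⟨ψ.comp φ, F.real_comp hi (Ne.symm hj) hij hφ hψ, fun x => ?_⟩
  rw [hκ, hκ, AddMonoidHom.comp_apply, hφx, hψx, act_one, act_mul]

end Frame

/-- Coordinates over a finite field. -/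
theorem exists_coordinates : ∃ (n : ℕ) (K : Type) (_ : Field K) (_ : Fintype K) (e : V ≃+ (Fin n → K)),
    2 ≤ n ∧ Fintype.card K = d.Q ∧
    (∀ T ∈ d.lines, ∃ w, w ≠ 0 ∧ ∀ v, v ∈ T ↔ ∃ c : K, e v = c • w) ∧
    (∀ w, w ≠ 0 → ∃ T ∈ d.lines, ∀ v, v ∈ T ↔ ∃ c : K, e v = c • w) ∧
    (∀ M ∈ d.hyps, ∃ f : (Fin n → K) →ₗ[K] K, f ≠ 0 ∧ ∀ v, v ∈ M ↔ f (e v) = 0) ∧
    ∀ f : (Fin n → K) →ₗ[K] K, f ≠ 0 → ∃ M ∈ d.hyps, ∀ v, v ∈ M ↔ f (e v) = 0 := by
  classical
  obtain ⟨n, ⟨F⟩⟩ := d.exists_frame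
  -- the dimension is at least two
  have hcard : Nat.card V = d.Q ^ n := by
    rw [← Nat.card_congr F.iso.toEquiv, Nat.card_pi, prod_congr rfl fun i _ => d.card_line _ (F.hT i)]
    simp
  have hn : 2 ≤ n := by
    by_contra hn
    have hQ := d.Q_lt
    have := d.one_lt_Q
    rcases Nat.lt_succ_iff.mp (by omega : n < 2) |>.lt_or_eq with h | h
    · rw [hcard, show n = 0 by omega, pow_zero] at hQ; omega
    · rw [hcard, h, pow_one] at hQ; omega
  let i₀ : Fin n := ⟨0, by omega⟩
  let i₁ : Fin n := ⟨1, by omega⟩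
  have h01 : i₀ ≠ i₁ := by simp [i₀, i₁]
  obtain ⟨K, hKf, hKfin, κ, hK, hreal⟩ := F.exists_scalars i₀ i₁ h01
  let e : V ≃+ (Fin n → K) := F.iso.symm.trans (AddEquiv.piCongrRight fun i => (κ i).symm)
  have hes : ∀ u : Fin n → K, e.symm u = F.iso fun i => κ i (u i) := fun u => rfl
  -- every elementary transvection is realised
  have htv : ∀ (i j : Fin n), i ≠ j → ∀ r : K, ∃ g ∈ d.L, ∀ u : Fin n → K,
      g (e.symm u) = e.symm (u + Pi.single j (r * u i)) := by
    intro i j hij r
    obtain ⟨φ, ⟨g, hg, hgv⟩, hφ⟩ := hreal i j hij r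
    refine ⟨g, hg, fun u => ?_⟩
    rw [hes, hgv, hes]
    congr 1
    funext l
    by_cases hl : l = j
    · subst hl
      simp [hφ]
    · simp [hl]
  -- the realised matrices
  let Ms : Submonoid (Matrix.SpecialLinearGroup (Fin n) K) :=
    { carrier := {A | ∃ g ∈ d.L, ∀ u : Fin n → K,
        g (e.symm u) = e.symm ((A : Matrix (Fin n) (Fin n) K).mulVec u)}
      one_mem' := ⟨1, one_mem _, fun u => by simp⟩
      mul_mem' := by
        rintro A B ⟨g, hg, hgu⟩ ⟨h, hh, hhu⟩
        refine ⟨g * h, mul_mem hg hh, fun u => ?_⟩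
        show g (h (e.symm u)) = _
        rw [hhu, hgu, Matrix.mulVec_mulVec, Matrix.SpecialLinearGroup.coe_mul] }
  let Hs : Subgroup (Matrix.SpecialLinearGroup (Fin n) K) :=
    { Ms with
      inv_mem' := fun {A} (hA : A ∈ Ms) => by
        have : A⁻¹ = A ^ (orderOf A - 1) := by
          rw [inv_eq_iff_mul_eq_one, ← pow_succ', Nat.sub_add_cancel (orderOf_pos A), pow_orderOf_eq_one]
        show A⁻¹ ∈ Ms
        rw [this]
        exact pow_mem hA _ }
  have hall : ∀ A : Matrix.SpecialLinearGroup (Fin n) K, ∃ g ∈ d.L, ∀ u : Fin n → K,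
      g (e.symm u) = e.symm ((A : Matrix (Fin n) (Fin n) K).mulVec u) := by
    haveI : Nontrivial (Fin n) := ⟨i₀, i₁, h01⟩
    intro A
    change A ∈ Hs
    refine SLGen.mem_of_all_transvections Hs (fun i j hij r => ?_) A
    obtain ⟨g, hg, hgu⟩ := htv j i hij.symm r
    refine ⟨g, hg, fun u => ?_⟩
    rw [hgu]
    congr 1
    funext l
    rw [Matrix.SpecialLinearGroup.transvection_coe, Matrix.add_mulVec,
      Matrix.one_mulVec, Matrix.single_mulVec]
    simp [Pi.single_apply, Function.update_apply]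
  have htrans : ∀ v w : Fin n → K, v ≠ 0 → w ≠ 0 → ∃ A : Matrix.SpecialLinearGroup (Fin n) K,
      ∃ k : K, k ≠ 0 ∧ (A : Matrix (Fin n) (Fin n) K).mulVec v = k • w := by
    intro v w hv hw
    haveI : MulAction.IsPretransitive (Matrix.SpecialLinearGroup (Fin n) K) (Projectivization K (Fin n → K)) :=
      MulAction.isPretransitive_of_is_two_pretransitive
    obtain ⟨A, hA⟩ := MulAction.exists_smul_eq (Matrix.SpecialLinearGroup (Fin n) K)
      (Projectivization.mk K v hv) (Projectivization.mk K w hw)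
    rw [Projectivization.smul_mk, Projectivization.mk_eq_mk_iff] at hA
    obtain ⟨k, hk⟩ := hA
    exact ⟨A, k, k.ne_zero, hk.symm⟩
  have e0line : ∀ v, v ∈ F.T i₀ ↔ ∃ r : K, e v = r • (Pi.single i₀ (1 : K) : Fin n → K) := by
    intro v
    constructor
    · intro hv
      refine ⟨(κ i₀).symm ⟨v, hv⟩, e.symm.injective ?_⟩
      rw [AddEquiv.symm_apply_apply, hes]
      refine (F.iso_single i₀ ⟨v, hv⟩).symm.trans (congrArg F.iso (funext fun l => ?_))
      by_cases hl : l = i₀
      · subst hl; simp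
      · simp [hl]
    · rintro ⟨r, hr⟩
      rw [← e.symm_apply_apply v, hr, hes]
      have : (fun i => κ i ((r • (Pi.single i₀ (1 : K) : Fin n → K)) i)) =
          Pi.single i₀ (κ i₀ r) := funext fun l => by
        by_cases hl : l = i₀
        · subst hl; simp
        · simp [hl]
      rw [this, F.iso_single]
      exact (κ i₀ r).2
  have hline : ∀ w : Fin n → K, w ≠ 0 → ∃ T ∈ d.lines, ∀ v, v ∈ T ↔ ∃ r : K, e v = r • w := by
    intro w hw
    obtain ⟨A, k, hk, hA⟩ := htrans _ w (show (Pi.single i₀ (1 : K) : Fin n → K) ≠ 0 by simp) hw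
    obtain ⟨g, hg, hgu⟩ := hall A
    obtain ⟨T, hT, hgT⟩ := d.map_line g hg _ (F.hT i₀)
    have hsurj := (Function.Injective.bijective_of_nat_card_le
      (f := fun x : ↥(F.T i₀) => (⟨g x, hgT x x.2⟩ : ↥T))
      (fun x y h => Subtype.ext (d.inj g hg (congrArg Subtype.val h)))
      (by rw [d.card_line _ hT, d.card_line _ (F.hT i₀)])).2
    have himg : ∀ r : K, g (e.symm (r • (Pi.single i₀ (1 : K) : Fin n → K))) =
        e.symm ((r * k) • w) := fun r => by rw [hgu, Matrix.mulVec_smul, hA, smul_smul]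
    refine ⟨T, hT, fun v => ⟨fun hv => ?_, ?_⟩⟩
    · obtain ⟨x, hx⟩ := hsurj ⟨v, hv⟩
      obtain ⟨r, hr⟩ := (e0line x).mp x.2
      refine ⟨r * k, ?_⟩
      have hx' : g x = v := congrArg Subtype.val hx
      rw [← hx']
      rw [← e.symm_apply_apply (x : V), hr, himg, AddEquiv.apply_symm_apply]
    · rintro ⟨r, hr⟩
      have := hgT _ ((e0line (e.symm ((r * k⁻¹) • (Pi.single i₀ (1 : K) : Fin n → K)))).mpr
        ⟨_, e.apply_symm_apply _⟩)
      rwa [himg, mul_assoc, inv_mul_cancel₀ hk, mul_one, ← hr, AddEquiv.symm_apply_apply] at this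
  have hM0 : ∀ v, v ∈ F.M i₀ ↔ e v i₀ = 0 := fun v => by
    obtain ⟨u, rfl⟩ := e.symm.surjective v
    rw [hes, F.iso_mem_iff, AddEquiv.map_eq_zero_iff, ← hes, AddEquiv.apply_symm_apply]
  have hker : ∀ f : (Fin n → K) →ₗ[K] K, f ≠ 0 →
      Nat.card ↥(LinearMap.ker f) * d.Q = Nat.card V := by
    intro f hf
    rw [Nat.card_congr e.toEquiv, Submodule.card_eq_card_quotient_mul_card (LinearMap.ker f), mul_comm,
      Nat.card_congr (f.quotKerEquivOfSurjective (f.surjective_iff_ne_zero.mpr hf)).toEquiv,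
      ← hK, Nat.card_eq_fintype_card (α := K), mul_comm]
  refine ⟨n, K, inferInstance, inferInstance, e, hn, hK, fun T hT => ?_, hline, fun M hM => ?_, fun f hf => ?_⟩
  · obtain ⟨v, hvT, hv⟩ := d.exists_ne_zero hT
    obtain ⟨T', hT', hmem⟩ := hline (e v) (by simpa using hv)
    obtain rfl : T = T' := d.disj _ hT _ hT' v hv hvT ((hmem v).mpr ⟨1, (one_smul K _).symm⟩)
    exact ⟨e v, by simpa using hv, hmem⟩
  · let Msub : Submodule K (Fin n → K) :=
      { carrier := {u | e.symm u ∈ M}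
        add_mem' := fun {u u'} hu hu' => by
          show e.symm (u + u') ∈ M
          rw [map_add]; exact add_mem hu hu'
        zero_mem' := by show e.symm 0 ∈ M; rw [map_zero]; exact zero_mem M
        smul_mem' := fun r u hu => by
          show e.symm (r • u) ∈ M
          by_cases hu0 : u = 0
          · subst hu0; rw [smul_zero, map_zero]; exact zero_mem M
          obtain ⟨T, hT, hmem⟩ := hline u hu0
          exact d.closed M hM T hT (e.symm u) (by simpa using hu0)
            ((hmem _).mpr ⟨1, by rw [e.apply_symm_apply, one_smul]⟩) hu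
            ((hmem _).mpr ⟨r, e.apply_symm_apply _⟩) }
    have hc : Nat.card ↥Msub = Nat.card ↥M :=
      Nat.card_congr (e.symm.toEquiv.subtypeEquiv fun u => Iff.rfl)
    have hlt : Msub < ⊤ := lt_top_iff_ne_top.mpr fun h => by
      have h1 := d.card_hyp M hM
      have h2 := d.one_lt_Q
      rw [← hc, h, Nat.card_congr (Submodule.topEquiv (R := K) (M := Fin n → K)).toEquiv,
        ← Nat.card_congr e.toEquiv] at h1
      have := Nat.card_pos (α := V)
      nlinarith
    obtain ⟨f, hf, hle⟩ := Submodule.exists_le_ker_of_lt_top Msub hlt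
    refine ⟨f, hf, fun v => ?_⟩
    have : Msub = LinearMap.ker f := by
      refine SetLike.coe_injective (Set.eq_of_subset_of_ncard_le hle ?_ (Set.toFinite _))
      rw [← Nat.card_coe_set_eq, ← Nat.card_coe_set_eq]
      have h1 := (hker f hf).trans (d.card_hyp M hM).symm
      exact le_of_eq ((Nat.eq_of_mul_eq_mul_right (by have := d.one_lt_Q; omega) h1).trans hc.symm)
    rw [← LinearMap.mem_ker, ← this]
    show v ∈ M ↔ e.symm (e v) ∈ M
    rw [e.symm_apply_apply]
  · let p : Fin n → K := fun i => f (Pi.single i 1)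
    have hfp : ∀ u, f u = dotProduct p u := fun u => by
      conv_lhs => rw [pi_eq_sum_univ' u]
      simp [dotProduct, p, Pi.single_apply, mul_comm, eq_comm]
    have hp : p ≠ 0 := fun h => hf (LinearMap.ext fun u => by simp [hfp, h])
    obtain ⟨B, k, hk, hB⟩ := htrans p (Pi.single i₀ (1 : K)) hp (by simp)
    obtain ⟨g, hg, hgu⟩ := hall B.transpose
    obtain ⟨M, hM, hgM⟩ := d.map_hyp g hg _ (F.hM i₀)
    refine ⟨M, hM, fun v => ?_⟩
    have hdot : ∀ u, f ((B.transpose : Matrix (Fin n) (Fin n) K).mulVec u) = k * u i₀ := fun u => by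
      rw [hfp, Matrix.SpecialLinearGroup.coe_transpose, Matrix.mulVec_transpose, dotProduct_comm,
        ← Matrix.dotProduct_mulVec, hB]
      simp [dotProduct, Pi.single_apply, mul_comm]
    have hsurj := (Function.Injective.bijective_of_nat_card_le
      (f := fun x : ↥(F.M i₀) => (⟨g x, hgM x x.2⟩ : ↥M))
      (fun x y h => Subtype.ext (d.inj g hg (congrArg Subtype.val h)))
      (Nat.eq_of_mul_eq_mul_right (by have := d.one_lt_Q; omega)
        ((d.card_hyp M hM).trans (d.card_hyp _ (F.hM i₀)).symm)).le).2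
    constructor
    · intro hv
      obtain ⟨x, hx⟩ := hsurj ⟨v, hv⟩
      have hx' : g x = v := congrArg Subtype.val hx
      rw [← hx']
      rw [← e.symm_apply_apply (x : V), hgu, e.apply_symm_apply, hdot, (hM0 x).mp x.2, mul_zero]
    · intro hv
      obtain ⟨u, hu⟩ : ∃ u, (B.transpose : Matrix (Fin n) (Fin n) K).mulVec u = e v :=
        ⟨((B.transpose⁻¹ : Matrix.SpecialLinearGroup (Fin n) K) : Matrix (Fin n) (Fin n) K).mulVec (e v), by
          rw [Matrix.mulVec_mulVec, ← Matrix.SpecialLinearGroup.coe_mul, mul_inv_cancel,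
            Matrix.SpecialLinearGroup.coe_one, Matrix.one_mulVec]⟩
      rw [← hu, hdot, mul_eq_zero] at hv
      have := hgM (e.symm u) ((hM0 _).mpr (by rw [e.apply_symm_apply]; exact hv.resolve_left hk))
      rwa [hgu, hu, e.symm_apply_apply] at this

end LinData

end Cfsg.Agent.AxialDesign
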