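/-
The linear data carried by the translations of one block of an axial family.

* `AxialSys.linData` : lines, hyperplanes and transvections on the axial group of a block
-/
import Cfsg.Agent.Lib.AxialDesign.Elation
import Cfsg.Agent.Lib.AxialDesign.LinearFrame

set_option autoImplicit false

namespace Cfsg.Agent.AxialDesign

open Finset MulAction

variable {G X Ω : Type*} [Group G] [Finite G] [Fintype X] [Fintype Ω] [DecidableEq X] [DecidableEq Ω]
  [MulAction G X] [MulAction G Ω]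

namespace AxialSys

variable (S : AxialSys G X Ω)

/-- The axial groups are abelian. -/
instance commGroupU (x : X) : CommGroup ↥(S.U x) :=
  { (S.U x).toGroup with mul_comm := fun u v => Subtype.ext (S.commute u.2 v.2) }

/-- An element fixing the axis acts on the axial group. -/
def conjEnd (x₀ : X) (p₀ : Ω) :
    ↥(stabilizer G x₀ ⊓ stabilizer G p₀) →* AddMonoid.End (Additive ↥(S.U x₀)) where
  toFun g := MonoidHom.toAdditive (MonoidHom.mk'
    (fun u : ↥(S.U x₀) => (⟨g * u * (g : G)⁻¹, by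
      have h := S.conj (g : G) x₀ u u.2
      rwa [mem_stabilizer_iff.mp (Subgroup.mem_inf.mp g.2).1] at h⟩ : ↥(S.U x₀)))
    fun u v => Subtype.ext (show (g : G) * (u * v) * (g : G)⁻¹ =
      (g * u * (g : G)⁻¹) * (g * v * (g : G)⁻¹) by group))
  map_one' := AddMonoidHom.ext fun u => congrArg Additive.ofMul
    (Subtype.ext (show (1 : G) * (Additive.toMul u : ↥(S.U x₀)) * (1 : G)⁻¹ = _ by group; rfl))
  map_mul' g h := AddMonoidHom.ext fun u => congrArg Additive.ofMul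
    (Subtype.ext (show ((g : G) * h) * (Additive.toMul u : ↥(S.U x₀)) * ((g : G) * h)⁻¹ =
      (g : G) * ((h : G) * (Additive.toMul u : ↥(S.U x₀)) * (h : G)⁻¹) * (g : G)⁻¹ by group))

/-- The elations with centre `a`, inside the axial group. -/
def lineAdd (x₀ : X) (a : Ω) : AddSubgroup (Additive ↥(S.U x₀)) :=
  Subgroup.toAddSubgroup ((S.T x₀ a).subgroupOf (S.U x₀))

/-- The axial elements fixing the block `c`, inside the axial group. -/
def hypAdd (x₀ c : X) : AddSubgroup (Additive ↥(S.U x₀)) :=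
  Subgroup.toAddSubgroup ((stabilizer G c).subgroupOf (S.U x₀))

theorem mem_lineAdd {x₀ : X} {a : Ω} {v : Additive ↥(S.U x₀)} :
    v ∈ S.lineAdd x₀ a ↔ ((Additive.toMul v : ↥(S.U x₀)) : G) ∈ S.T x₀ a := Iff.rfl

theorem mem_hypAdd {x₀ c : X} {v : Additive ↥(S.U x₀)} :
    v ∈ S.hypAdd x₀ c ↔ ((Additive.toMul v : ↥(S.U x₀)) : G) • c = c := Iff.rfl

theorem lineAdd_le_iff {x₀ c : X} {a : Ω} (ha : a ∈ S.D.blk x₀) :
    S.lineAdd x₀ a ≤ S.hypAdd x₀ c ↔ a ∈ S.D.blk c := by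
  refine ⟨fun h => ?_, fun h v hv => (S.mem_lineAdd.mp hv).2 c h⟩
  obtain ⟨u, hu, hu1⟩ := S.exists_ne_T ha
  exact (S.T_centre hu hu1 c).mp
    (S.mem_hypAdd.mp (h (S.mem_lineAdd.mpr hu : Additive.ofMul ⟨u, hu.1⟩ ∈ S.lineAdd x₀ a)))

theorem lineAdd_injective {x₀ : X} {a b : Ω} (ha : a ∈ S.D.blk x₀)
    (h : S.lineAdd x₀ a = S.lineAdd x₀ b) : a = b := by
  obtain ⟨u, hu, hu1⟩ := S.exists_ne_T ha
  refine S.T_unique hu ?_ hu1
  have : Additive.ofMul ⟨u, hu.1⟩ ∈ S.lineAdd x₀ b := h ▸ (S.mem_lineAdd.mpr hu)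
  exact S.mem_lineAdd.mp this

/-- A point off the axis in a block is moved into it exactly by the stabiliser of the block. -/
theorem smul_mem_blk_iff {x₀ c : X} {p₀ : Ω} (hp : p₀ ∉ S.D.blk x₀) (hc : c ≠ x₀) (hpc : p₀ ∈ S.D.blk c)
    {u : G} (hu : u ∈ S.U x₀) : u • p₀ ∈ S.D.blk c ↔ u • c = c := by
  refine ⟨fun h => by_contra fun hne => hp ?_, fun h => ?_⟩
  · have h2 : u • p₀ ∈ S.D.blk (u • c) := (S.inv u c p₀).mpr hpc
    have hS := S.D.blk_eq_of_inter (x := u • c) (x' := c) hne (S.meet_subset hu c) inter_subset_right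
      (by rw [S.D.card_inter _ _ hc.symm])
    have hm : u • p₀ ∈ S.D.blk x₀ ∩ S.D.blk c := hS ▸ mem_inter.mpr ⟨h2, h⟩
    have hm' := (mem_inter.mp hm).1
    rwa [← S.fix_axis hu, S.inv] at hm'
  · rw [← h]; exact (S.inv u c p₀).mpr hpc

theorem exists_through {x₀ c : X} {p₀ : Ω} (hp : p₀ ∉ S.D.blk x₀) (hc : c ≠ x₀) :
    ∃ w ∈ S.U x₀, w • c ≠ x₀ ∧ p₀ ∈ S.D.blk (w • c) ∧
      ∀ u ∈ S.U x₀, u • (w • c) = w • c ↔ u • c = c := by
  have hns : ¬S.D.blk c ⊆ S.D.blk x₀ := fun h =>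
    hc (S.D.blk_injective (eq_of_subset_of_card_le h (by rw [S.D.card_blk, S.D.card_blk])))
  obtain ⟨p, hpc, hpx⟩ := not_subset.mp hns
  obtain ⟨w, hw, hwp⟩ := S.exists_smul_eq hpx hp
  refine ⟨w, hw, fun e => hc (smul_left_cancel w (e.trans (S.fix_axis hw).symm)), ?_, fun u hu => ?_⟩
  · rw [← hwp]; exact (S.inv w c p).mpr hpc
  · rw [← mul_smul, S.commute hu hw, mul_smul, smul_left_cancel_iff]

theorem card_lineAdd {x₀ : X} {a : Ω} (ha : a ∈ S.D.blk x₀) :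
    Nat.card ↥(S.lineAdd x₀ a) = S.Q x₀ := by
  rw [← S.card_T ha]
  exact Nat.card_congr
    { toFun := fun v => ⟨_, S.mem_lineAdd.mp v.2⟩
      invFun := fun u => ⟨Additive.ofMul ⟨u, u.2.1⟩, u.2⟩
      left_inv := fun v => rfl
      right_inv := fun u => rfl }

theorem card_hypAdd {x₀ c : X} (hc : c ≠ x₀) :
    Nat.card ↥(S.hypAdd x₀ c) * S.Q x₀ = Nat.card (Additive ↥(S.U x₀)) := by
  have e : Nat.card ↥(S.hypAdd x₀ c) = Nat.card ↥(S.W x₀ c) :=
    Nat.card_congr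
      { toFun := fun v => ⟨((Additive.toMul v.1 : ↥(S.U x₀)) : G),
          (Additive.toMul v.1 : ↥(S.U x₀)).2, S.mem_hypAdd.mp v.2⟩
        invFun := fun u => ⟨Additive.ofMul ⟨u, u.2.1⟩, u.2.2⟩
        left_inv := fun v => rfl
        right_inv := fun u => rfl }
  have h2 : Nat.card (Additive ↥(S.U x₀)) = Nat.card ↥(S.U x₀) := Nat.card_congr Additive.toMul
  rw [e, h2, S.card_W hc, S.card_U, (S.parameters x₀).1]
  obtain ⟨t, ht⟩ : ∃ t, S.Q x₀ = t + 1 := ⟨S.Q x₀ - 1, by have := S.one_lt_Q x₀; omega⟩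
  rw [ht, Nat.add_sub_cancel]
  ring

/-- The lines, hyperplanes and transvections on the axial group of `x₀`. -/
noncomputable def linData (x₀ : X) (p₀ : Ω) (hp : p₀ ∉ S.D.blk x₀) :
    LinData (Additive ↥(S.U x₀)) where
  lines := {T | ∃ a ∈ S.D.blk x₀, T = S.lineAdd x₀ a}
  hyps := {M | ∃ c, c ≠ x₀ ∧ p₀ ∈ S.D.blk c ∧ M = S.hypAdd x₀ c}
  L := MonoidHom.mrange (S.conjEnd x₀ p₀)
  Q := S.Q x₀
  one_lt_Q := S.one_lt_Q x₀
  Q_lt := by
    rw [Nat.card_congr Additive.toMul, S.card_U]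
    have h1 := Nat.mul_le_mul_right (S.Q x₀ - 1) (show 2 ≤ S.D.k by have := S.D.two_add_le; omega)
    have := S.one_lt_Q x₀
    omega
  inj := by
    rintro _ ⟨g, rfl⟩ u v e
    have e' : (g : G) * (Additive.toMul u : ↥(S.U x₀)) * (g : G)⁻¹ =
        (g : G) * (Additive.toMul v : ↥(S.U x₀)) * (g : G)⁻¹ :=
      congrArg (fun z : Additive ↥(S.U x₀) => ((Additive.toMul z : ↥(S.U x₀)) : G)) e
    exact Additive.toMul.injective (Subtype.ext (mul_left_cancel (mul_right_cancel e')))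
  cover := by
    intro v hv
    obtain ⟨a, ha, hva⟩ := S.exists_mem_T (Additive.toMul v : ↥(S.U x₀)).2
      (fun e => hv (Additive.toMul.injective (Subtype.ext e)))
    exact ⟨_, ⟨a, ha, rfl⟩, S.mem_lineAdd.mpr hva⟩
  disj := by
    rintro _ ⟨a, ha, rfl⟩ _ ⟨b, hb, rfl⟩ v hv h1 h2
    rw [S.T_unique h1 h2 fun e => hv (Additive.toMul.injective (Subtype.ext e))]
  card_line := by
    rintro _ ⟨a, ha, rfl⟩
    exact S.card_lineAdd ha
  card_hyp := by
    rintro _ ⟨c, hc, -, rfl⟩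
    exact S.card_hypAdd hc
  closed := by
    rintro _ ⟨c, -, -, rfl⟩ _ ⟨a, ha, rfl⟩ v hv h1 h2
    exact (S.lineAdd_le_iff ha).mpr
      ((S.T_centre h1 (fun e => hv (Additive.toMul.injective (Subtype.ext e))) c).mp h2)
  sep := by
    intro v hv
    have hne : ((Additive.toMul v : ↥(S.U x₀)) : G) ≠ 1 := fun e =>
      hv (Additive.toMul.injective (Subtype.ext e))
    obtain ⟨a, ha, hva⟩ := S.exists_mem_T (Additive.toMul v : ↥(S.U x₀)).2 hne
    obtain ⟨c, hc⟩ : ∃ c, a ∉ S.D.blk c := by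
      by_contra h
      push Not at h
      have := S.D.card_thru a
      rw [filter_true_of_mem fun c _ => h c, card_univ, S.D.card_eq] at this
      have := S.D.k_lt
      omega
    obtain ⟨w, -, h1, h2, h3⟩ := S.exists_through hp (fun e : c = x₀ => hc (e ▸ ha))
    refine ⟨_, ⟨w • c, h1, h2, rfl⟩, fun h => hc ((S.T_centre hva hne c).mp ?_)⟩
    exact (h3 _ (Additive.toMul v : ↥(S.U x₀)).2).mp (S.mem_hypAdd.mp h)
  map_line := by
    rintro _ ⟨g, rfl⟩ _ ⟨a, ha, rfl⟩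
    have hg := Subgroup.mem_inf.mp g.2
    refine ⟨_, ⟨(g : G) • a, ?_, rfl⟩, fun v hv => ?_⟩
    · have h := (S.inv (g : G) x₀ a).mpr ha
      rwa [mem_stabilizer_iff.mp hg.1] at h
    · have h := S.T_conj (g : G) (S.mem_lineAdd.mp hv)
      rw [mem_stabilizer_iff.mp hg.1] at h
      exact S.mem_lineAdd.mpr h
  map_hyp := by
    rintro _ ⟨g, rfl⟩ _ ⟨c, hc, hpc, rfl⟩
    have hg := Subgroup.mem_inf.mp g.2
    refine ⟨_, ⟨(g : G) • c, fun e => hc (smul_left_cancel (g : G) (e.trans hg.1.symm)), ?_, rfl⟩,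
      fun v hv => ?_⟩
    · have h := (S.inv (g : G) c p₀).mpr hpc
      rwa [mem_stabilizer_iff.mp hg.2] at h
    · refine S.mem_hypAdd.mpr ?_
      show ((g : G) * (Additive.toMul v : ↥(S.U x₀)) * (g : G)⁻¹) • ((g : G) • c) = (g : G) • c
      rw [mul_smul, mul_smul, inv_smul_smul, S.mem_hypAdd.mp hv]
  transvection := by
    rintro _ ⟨c, hc, hpc, rfl⟩ _ ⟨a, ha, rfl⟩ hle v hv z hz
    have hac : a ∈ S.D.blk c := (S.lineAdd_le_iff ha).mp hle
    by_cases hz1 : ((Additive.toMul z : ↥(S.U x₀)) : G) = 1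
    · have hz0 : z = 0 := Additive.toMul.injective (Subtype.ext hz1)
      exact ⟨1, one_mem _, fun w _ => rfl, by simp [hz0], fun w => by simp⟩
    set v' := (Additive.toMul v : ↥(S.U x₀)) with hv'
    have hvc : ((v' : G))⁻¹ • c ≠ c := fun e => hv (S.mem_hypAdd.mpr (inv_smul_eq_iff.mp e).symm)
    obtain ⟨h, hh, hhz⟩ := S.comm_surj hc (inv_mem v'.2) hvc
      (z := ((Additive.toMul z : ↥(S.U x₀)) : G)) ⟨hz.1, hz.2 c hac⟩
    have hhx : h • x₀ = x₀ := hh.2
    have hh1 : h ≠ 1 := by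
      rintro rfl
      exact hz1 (by rw [← hhz]; group)
    have hcentre : ∀ e, a ∈ S.D.blk e → h • e = e := fun e he => by
      have hfix := S.fix_iff hz.1 hz1 hh.1 hh1 (fun e he => by
        have h2 := (S.comm_mem hc (inv_mem v'.2) hh.1 hhx).2 e he
        rwa [hhz] at h2) e
      exact hfix.mp (hz.2 e he)
    have hR : h ∈ stabilizer G x₀ ⊓ stabilizer G p₀ := ⟨hhx, S.axis c h hh.1 p₀ hpc⟩
    refine ⟨S.conjEnd x₀ p₀ ⟨h, hR⟩, ⟨⟨h, hR⟩, rfl⟩, fun w hw => ?_, ?_, fun w => ?_⟩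
    · refine Additive.toMul.injective (Subtype.ext ?_)
      show h * (Additive.toMul w : ↥(S.U x₀)) * h⁻¹ = (Additive.toMul w : ↥(S.U x₀))
      rw [← S.commute_of_fix hc.symm (Additive.toMul w : ↥(S.U x₀)).2 hh.1 (S.mem_hypAdd.mp hw) hhx,
        mul_inv_cancel_right]
    · refine Additive.toMul.injective (Subtype.ext ?_)
      show h * (v' : G) * h⁻¹ = (v' : G) * (Additive.toMul z : ↥(S.U x₀))
      rw [← hhz]
      group
    · refine S.mem_lineAdd.mpr ?_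
      show (h * (Additive.toMul w : ↥(S.U x₀)) * h⁻¹) / ((Additive.toMul w : ↥(S.U x₀)) : G) ∈ S.T x₀ a
      have hw := (Additive.toMul w : ↥(S.U x₀)).2
      have hcm := S.comm_mem hc (inv_mem hw) hh.1 hhx
      set w' := ((Additive.toMul w : ↥(S.U x₀)) : G)
      have heq : (h * w' * h⁻¹) / w' = w'⁻¹ * h * w'⁻¹⁻¹ * h⁻¹ := by
        have hm : h * w' * h⁻¹ ∈ S.U x₀ := by simpa [hhx] using S.conj h x₀ w' hw
        rw [div_eq_mul_inv, S.commute hm (inv_mem hw)]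
        group
      rw [heq]
      exact ⟨hcm.1, fun e he => hcm.2 e (hcentre e he)⟩
  rigid := by
    rintro _ ⟨g, rfl⟩ _ ⟨c, hc, hpc, rfl⟩ v hv hM hgv
    suffices hg1 : (g : G) = 1 by
      have : g = 1 := Subtype.ext hg1
      subst this
      intro w
      rw [map_one]
      rfl
    have hgx : (g : G) • x₀ = x₀ := (Subgroup.mem_inf.mp g.2).1
    have hgp : (g : G) • p₀ = p₀ := (Subgroup.mem_inf.mp g.2).2
    have hconj : ∀ (u : G) (hu : u ∈ S.U x₀), u • c = c → (g : G) * u * (g : G)⁻¹ = u := fun u hu huc =>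
      congrArg (fun z : Additive ↥(S.U x₀) => ((Additive.toMul z : ↥(S.U x₀)) : G))
        (hM (Additive.ofMul ⟨u, hu⟩) (S.mem_hypAdd.mpr huc))
    have hpt : ∀ u : G, (g : G) * u * (g : G)⁻¹ = u → (g : G) • (u • p₀) = u • p₀ := fun u hu => by
      conv_rhs => rw [← hu, mul_smul, mul_smul, inv_smul_eq_iff.mpr hgp.symm]
    have haxis : ∀ y ∈ S.D.blk c, (g : G) • y = y := by
      intro y hy
      by_cases hyx : y ∈ S.D.blk x₀
      · obtain ⟨u, hu, hu1⟩ := S.exists_ne_T hyx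
        have h := S.T_conj (g : G) hu
        rw [hconj u hu.1 (hu.2 c hy), hgx] at h
        exact (S.T_unique h hu hu1)
      · obtain ⟨u, hu, rfl⟩ := S.exists_smul_eq hp hyx
        exact hpt u (hconj u hu ((S.smul_mem_blk_iff hp hc hpc hu).mp hy))
    set v' := (Additive.toMul v : ↥(S.U x₀))
    have hvy : (v' : G) • p₀ ∉ S.D.blk c := fun h =>
      hv (S.mem_hypAdd.mpr ((S.smul_mem_blk_iff hp hc hpc v'.2).mp h))
    have hvx : (v' : G) • p₀ ∉ S.D.blk x₀ := fun h => hp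
      ((S.inv (v' : G) x₀ p₀).mp ((S.fix_axis v'.2).symm ▸ h))
    have hone := Design.Axial.eq_one_of_center (D := S.D) (σ := toPerm (g : G)) (π := toPerm (g : G))
      ⟨S.isAuto _, haxis⟩ hvy
      (hpt v' (congrArg (fun z : Additive ↥(S.U x₀) => ((Additive.toMul z : ↥(S.U x₀)) : G)) hgv))
      (x := x₀) hgx hc.symm hvx
    exact S.faithful _ fun y => Equiv.congr_fun hone y

end AxialSys

end Cfsg.Agent.AxialDesign
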