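/-
The symmetric design of a subgroup whose index is the degree of a doubly transitive group.

* `design_of_orbit` : the translates of an orbit of the subgroup form a symmetric design
* `exists_axialSys` : if the orbit is fixed pointwise by a non-trivial element of the subgroup, the
  design carries an axial family
-/
import Cfsg.Agent.Lib.AxialDesign.Elation
import Cfsg.Agent.Lib.Frobenius.Kernel
import Cfsg.Agent.S3704

set_option autoImplicit false

namespace Cfsg.Agent.AxialDesign

open Finset MulAction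

variable {G Ω : Type*} [Group G] [Finite G] [MulAction G Ω] [FaithfulSMul G Ω] [Fintype Ω]
  [DecidableEq Ω]

omit [Finite G] [FaithfulSMul G Ω] [Fintype Ω] [DecidableEq Ω] in
theorem mk_out_mem_orbit_iff (H : Subgroup G) (a : Ω) (g : G) (y : Ω) :
    ((g : G ⧸ H).out⁻¹ • y ∈ orbit ↥H a) ↔ g⁻¹ • y ∈ orbit ↥H a := by
  obtain ⟨h, hh⟩ := QuotientGroup.mk_out_eq_mul H g
  rw [hh, mul_inv_rev, mul_smul]
  exact smul_mem_orbit_smul_iff h (g⁻¹ • y) a
where
  smul_mem_orbit_smul_iff {K : Subgroup G} (h : ↥K) (z a : Ω) :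
      (h : G)⁻¹ • z ∈ orbit ↥K a ↔ z ∈ orbit ↥K a := by
    constructor
    · rintro ⟨k, hk⟩
      refine ⟨h * k, ?_⟩
      show ((h : G) * k) • a = z
      rw [mul_smul, show (k : G) • a = _ from hk, smul_inv_smul]
    · rintro ⟨k, hk⟩
      refine ⟨h⁻¹ * k, ?_⟩
      show ((h : G)⁻¹ * k) • a = _
      rw [mul_smul, show (k : G) • a = z from hk]

open scoped Classical in
theorem design_of_orbit [Fintype G] (h2 : IsMultiplyPretransitive G Ω 2) (H : Subgroup G)
    [Fintype (G ⧸ H)] (hidx : H.index = Nat.card Ω) (a : Ω) (hne : ∃ b, b ∉ orbit ↥H a)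
    (hfix : ∀ b : Ω, ∃ h : ↥H, h • b ≠ b) :
    ∃ D : Design (G ⧸ H) Ω, ∀ x y, y ∈ D.blk x ↔ x.out⁻¹ • y ∈ orbit ↥H a := by
  haveI : IsPretransitive G Ω := isPretransitive_of_is_two_pretransitive
  let blk : G ⧸ H → Finset Ω := fun x => univ.filter fun y => x.out⁻¹ • y ∈ orbit ↥H a
  have hmem : ∀ (g : G) y, y ∈ blk g ↔ g⁻¹ • y ∈ orbit ↥H a := fun g y => by
    rw [mem_filter]
    exact (and_iff_right (mem_univ y)).trans (mk_out_mem_orbit_iff H a g y)
  have hinv : ∀ (g : G) x y, g • y ∈ blk (g • x) ↔ y ∈ blk x := by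
    intro g x y
    obtain ⟨c, rfl⟩ := QuotientGroup.mk_surjective x
    rw [show g • (c : G ⧸ H) = ((g * c : G) : G ⧸ H) from rfl, hmem, hmem, mul_inv_rev, mul_smul,
      inv_smul_smul]
  set k := (univ.filter fun y => y ∈ orbit ↥H a).card with hk
  have hblk : ∀ x, (blk x).card = k := fun x =>
    card_bij (fun y _ => x.out⁻¹ • y) (fun y hy => mem_filter.mpr ⟨mem_univ _, (mem_filter.mp hy).2⟩)
      (fun y _ y' _ h => smul_left_cancel _ h)
      fun y hy => ⟨x.out • y, mem_filter.mpr ⟨mem_univ _, by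
        rw [inv_smul_smul]; exact (mem_filter.mp hy).2⟩, inv_smul_smul _ _⟩
  have hX : Fintype.card (G ⧸ H) = Fintype.card Ω := by
    rw [← Nat.card_eq_fintype_card, ← Nat.card_eq_fintype_card, ← hidx]
    rfl
  let thru : Ω → Finset (G ⧸ H) := fun y => univ.filter fun x => y ∈ blk x
  have hthru_const : ∀ y, (thru y).card = (thru a).card := by
    intro y
    obtain ⟨g, rfl⟩ := exists_smul_eq G a y
    refine (card_bij (fun x _ => g • x) (fun x hx => mem_filter.mpr ⟨mem_univ _, (hinv g x a).mpr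
      (mem_filter.mp hx).2⟩) (fun x _ x' _ h => smul_left_cancel _ h) fun x hx => ?_).symm
    refine ⟨g⁻¹ • x, mem_filter.mpr ⟨mem_univ _, ?_⟩, smul_inv_smul g x⟩
    rw [← hinv g, smul_inv_smul]
    exact (mem_filter.mp hx).2
  haveI : Nonempty Ω := ⟨a⟩
  have hv : 0 < Fintype.card Ω := Fintype.card_pos
  have hthru : ∀ y, (thru y).card = k := by
    have hs : ∑ y, (thru y).card = ∑ x, (blk x).card := by
      simp only [thru, card_filter]
      rw [sum_comm]
      simp only [← card_filter, filter_univ_mem]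
    simp only [hthru_const, hblk, sum_const, smul_eq_mul, card_univ, hX] at hs
    intro y
    rw [hthru_const]
    exact Nat.eq_of_mul_eq_mul_left hv hs
  obtain ⟨b, hb⟩ := hne
  have hab : a ≠ b := fun e => hb (e ▸ mem_orbit_self a)
  set l := (univ.filter fun x => a ∈ blk x ∧ b ∈ blk x).card with hl
  have hthru2 : ∀ y y', y ≠ y' → (univ.filter fun x => y ∈ blk x ∧ y' ∈ blk x).card = l := by
    intro y y' hyy
    obtain ⟨g, rfl, rfl⟩ := is_two_pretransitive_iff.mp h2 hab hyy
    refine (card_bij (fun x _ => g • x) (fun x hx => mem_filter.mpr ⟨mem_univ _,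
      (hinv g x a).mpr (mem_filter.mp hx).2.1, (hinv g x b).mpr (mem_filter.mp hx).2.2⟩)
      (fun x _ x' _ h => smul_left_cancel _ h) fun x hx => ?_).symm
    refine ⟨g⁻¹ • x, mem_filter.mpr ⟨mem_univ _, ?_, ?_⟩, smul_inv_smul g x⟩
    · rw [← hinv g, smul_inv_smul]; exact (mem_filter.mp hx).2.1
    · rw [← hinv g, smul_inv_smul]; exact (mem_filter.mp hx).2.2
  -- the sizes
  have hk2 : 2 ≤ k := by
    obtain ⟨h, hh⟩ := hfix a
    refine one_lt_card.mpr ⟨h • a, ?_, a, ?_, hh⟩
    · exact mem_filter.mpr ⟨mem_univ _, mem_orbit a h⟩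
    · exact mem_filter.mpr ⟨mem_univ _, mem_orbit_self a⟩
  have hkv : k + 2 ≤ Fintype.card Ω := by
    obtain ⟨h, hh⟩ := hfix b
    have h1 : h • b ∉ orbit ↥H a := fun hm => hb (by
      have := mem_orbit_of_mem_orbit h⁻¹ hm
      rwa [inv_smul_smul] at this)
    have e := card_filter_add_card_filter_not (s := (univ : Finset Ω)) (fun y => y ∈ orbit ↥H a)
    have h2' : 2 ≤ (univ.filter fun y => ¬y ∈ orbit ↥H a).card :=
      one_lt_card.mpr ⟨h • b, mem_filter.mpr ⟨mem_univ _, h1⟩, b, mem_filter.mpr ⟨mem_univ _, hb⟩, hh⟩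
    rw [card_univ] at e
    omega
  -- pairs of incident points
  have hcount : (Fintype.card Ω - 1) * l = k * (k - 1) := by
    calc (Fintype.card Ω - 1) * l = ∑ y ∈ univ.erase a, (univ.filter fun x => a ∈ blk x ∧ y ∈ blk x).card := by
          rw [sum_congr rfl fun y hy => hthru2 a y (ne_of_mem_erase hy).symm, sum_const,
            card_erase_of_mem (mem_univ a), card_univ, smul_eq_mul]
      _ = ∑ x ∈ thru a, ((blk x).erase a).card := by
          simp only [card_filter, thru, sum_filter]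
          rw [sum_comm]
          refine sum_congr rfl fun x _ => ?_
          split_ifs with hax
          · simp only [hax, true_and]
            rw [← card_filter]
            congr 1
            ext y
            simp [mem_erase]
          · simp [hax]
      _ = k * (k - 1) := by
          rw [sum_congr rfl fun x hx => show _ = k - 1 by
            rw [card_erase_of_mem (mem_filter.mp hx).2, hblk], sum_const, hthru, smul_eq_mul]
  have hlpos : 0 < l := Nat.pos_of_ne_zero fun e => by
    rw [e, mul_zero] at hcount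
    have := Nat.mul_pos (show 0 < k by omega) (show 0 < k - 1 by omega)
    omega
  have hlk : l + 2 ≤ k := by
    obtain ⟨t, ht⟩ : ∃ t, k = t + 1 := ⟨k - 1, by omega⟩
    obtain ⟨s, hs⟩ : ∃ s, Fintype.card Ω = t + 3 + s := ⟨Fintype.card Ω - t - 3, by omega⟩
    rw [ht, hs, show t + 3 + s - 1 = t + 2 + s by omega, Nat.add_sub_cancel] at hcount
    by_contra hcon
    have h1 : t ≤ l := by omega
    have h2' := Nat.mul_le_mul_left (t + 2 + s) h1
    nlinarith
  -- intersections of two blocks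
  have hinter : ∀ x x', x ≠ x' → (blk x ∩ blk x').card = l := by
    intro x x' hne'
    have e1 : ∑ z ∈ univ.erase x, (blk x ∩ blk z).card = k * (k - 1) := by
      calc ∑ z ∈ univ.erase x, (blk x ∩ blk z).card = ∑ y ∈ blk x, ((thru y).erase x).card := by
            simp only [← filter_mem_eq_inter, card_filter]
            rw [sum_comm]
            refine sum_congr rfl fun y _ => ?_
            rw [← card_filter]
            congr 1
            ext z
            simp [thru]
        _ = k * (k - 1) := by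
            rw [sum_congr rfl fun y hy => show _ = k - 1 by
              rw [card_erase_of_mem (mem_filter.mpr ⟨mem_univ x, hy⟩ : x ∈ thru y), hthru],
              sum_const, hblk, smul_eq_mul]
    have e2 : ∑ z ∈ univ.erase x, (blk x ∩ blk z).card * (blk x ∩ blk z).card = k * (k - 1) * l := by
      calc ∑ z ∈ univ.erase x, (blk x ∩ blk z).card * (blk x ∩ blk z).card
          = ∑ z ∈ univ.erase x, (((blk x ×ˢ blk x).filter fun p => p.1 ∈ blk z ∧ p.2 ∈ blk z)).card := by
            refine sum_congr rfl fun z _ => ?_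
            rw [← card_product]
            congr 1
            ext p
            simp only [mem_product, mem_inter, mem_filter]
            tauto
        _ = ∑ p ∈ blk x ×ˢ blk x,
              ((univ.filter fun z => p.1 ∈ blk z ∧ p.2 ∈ blk z).erase x).card := by
            simp only [card_filter]
            rw [sum_comm]
            refine sum_congr rfl fun p _ => ?_
            rw [← card_filter]
            congr 1
            ext z
            simp
        _ = ∑ p ∈ blk x ×ˢ blk x, if p.1 = p.2 then k - 1 else l - 1 := by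
            refine sum_congr rfl fun p hp => ?_
            have hm : x ∈ univ.filter fun z => p.1 ∈ blk z ∧ p.2 ∈ blk z :=
              mem_filter.mpr ⟨mem_univ x, (mem_product.mp hp).1, (mem_product.mp hp).2⟩
            rw [card_erase_of_mem hm]
            split_ifs with hpe
            · simp only [hpe, and_self]
              exact congrArg (· - 1) (hthru p.2)
            · rw [hthru2 _ _ hpe]
        _ = k * (k - 1) + (k * k - k) * (l - 1) := by
            have ed : ((blk x ×ˢ blk x).filter fun p => p.1 = p.2) = (blk x).diag := by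
              ext ⟨p, q⟩
              simp only [mem_filter, mem_product, mem_diag]
              exact ⟨fun h => ⟨h.1.1, h.2⟩, fun h => ⟨⟨h.1, h.2 ▸ h.1⟩, h.2⟩⟩
            have eo : ((blk x ×ˢ blk x).filter fun p => ¬p.1 = p.2) = (blk x).offDiag := by
              ext ⟨p, q⟩
              simp only [mem_filter, mem_product, mem_offDiag, and_assoc]
            rw [sum_ite, sum_const, sum_const, smul_eq_mul, smul_eq_mul, ed, eo, diag_card,
              offDiag_card, hblk]
        _ = k * (k - 1) * l := by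
            rw [show k * k - k = k * (k - 1) by rw [Nat.mul_sub_one]]
            obtain ⟨l', hl'⟩ : ∃ l', l = l' + 1 := ⟨l - 1, by omega⟩
            rw [hl', Nat.add_sub_cancel]
            ring
    have hzero : ∑ z ∈ univ.erase x, (((blk x ∩ blk z).card : ℤ) - l) ^ 2 = 0 := by
      have e1' : ∑ z ∈ univ.erase x, ((blk x ∩ blk z).card : ℤ) = ((k * (k - 1) : ℕ) : ℤ) := by
        exact_mod_cast e1
      have e2' : ∑ z ∈ univ.erase x, ((blk x ∩ blk z).card : ℤ) * (blk x ∩ blk z).card =
          ((k * (k - 1) : ℕ) : ℤ) * l := by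
        exact_mod_cast e2
      have hc : (((univ.erase x).card : ℕ) : ℤ) * l = ((k * (k - 1) : ℕ) : ℤ) := by
        rw [card_erase_of_mem (mem_univ x), card_univ, hX]
        exact_mod_cast hcount
      have hexp : ∀ c : ℤ, (c - (l : ℤ)) ^ 2 = c * c - 2 * (l : ℤ) * c + (l : ℤ) * l := fun c => by ring
      rw [sum_congr rfl fun z _ => hexp _, sum_add_distrib, sum_sub_distrib, ← mul_sum, sum_const,
        nsmul_eq_mul, e1', e2']
      linear_combination (l : ℤ) * hc
    have := (sum_eq_zero_iff_of_nonneg fun z _ => sq_nonneg _).mp hzero x'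
      (mem_erase.mpr ⟨hne'.symm, mem_univ x'⟩)
    rw [sq_eq_zero_iff, sub_eq_zero] at this
    exact_mod_cast this
  exact ⟨⟨blk, k, l, hX, hblk, hinter, hthru, hthru2, hlpos, hlk, by omega⟩, fun x y => by simp [blk]⟩

open scoped Classical in
theorem exists_axialSys [Fintype G] (h2 : IsMultiplyPretransitive G Ω 2) (H : Subgroup G)
    [Fintype (G ⧸ H)] (hidx : H.index = Nat.card Ω) (hnt : ¬IsPretransitive ↥H Ω)
    (hfix : ∀ b : Ω, ∃ h : ↥H, h • b ≠ b) (a : Ω) (u : ↥H) (hu : u ≠ 1)
    (huf : ∀ b ∈ orbit ↥H a, u • b = b) : Nonempty (AxialSys G (G ⧸ H) Ω) := by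
  have hne : ∃ b, b ∉ orbit ↥H a := by
    by_contra hcon
    push Not at hcon
    exact hnt ((isPretransitive_iff_orbit_eq_univ a).mpr (Set.eq_univ_of_forall hcon))
  obtain ⟨D, hD⟩ := design_of_orbit h2 H hidx a hne hfix
  have hmem : ∀ (g : G) y, y ∈ D.blk g ↔ g⁻¹ • y ∈ orbit ↥H a := fun g y =>
    (hD _ y).trans (mk_out_mem_orbit_iff H a g y)
  have hinv : ∀ (g : G) x y, g • y ∈ D.blk (g • x) ↔ y ∈ D.blk x := by
    intro g x y
    obtain ⟨c, rfl⟩ := QuotientGroup.mk_surjective x
    rw [show g • (c : G ⧸ H) = ((g * c : G) : G ⧸ H) from rfl, hmem, hmem, mul_inv_rev, mul_smul,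
      inv_smul_smul]
  have hauto : ∀ g : G, D.IsAuto (toPerm g) (toPerm g) := fun g x y => hinv g x y
  have hfaith : ∀ g : G, (∀ y : Ω, g • y = y) → g = 1 := fun g hg =>
    eq_of_smul_eq_smul (α := Ω) fun y => by rw [hg, one_smul]
  set x₀ : G ⧸ H := ((1 : G) : G ⧸ H) with hx₀
  have hx0 : ∀ y, y ∈ D.blk x₀ ↔ y ∈ orbit ↥H a := fun y => by rw [hx₀, hmem, inv_one, one_smul]
  have hHx : ∀ h ∈ H, h • x₀ = x₀ := fun h hh => by
    show ((h * 1 : G) : G ⧸ H) = ((1 : G) : G ⧸ H)
    rw [QuotientGroup.eq]; simpa using hh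
  have hblocks : ∀ g : G, (∀ x : G ⧸ H, g • x = x) → g = 1 := fun g hg => hfaith g fun y => by
    have h := (hauto g).fixed_card_eq
    rw [filter_true_of_mem fun x _ => show toPerm g x = x from hg x, card_univ, D.card_eq, eq_comm,
      card_eq_iff_eq_univ] at h
    have hy : y ∈ univ.filter fun y : Ω => toPerm g y = y := by rw [h]; exact mem_univ y
    exact (mem_filter.mp hy).2
  -- the two orbits on points and on blocks
  have htwo : Nat.card (orbitRel.Quotient ↥H Ω) = 2 := S3704.result h2 H hidx hnt hfix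
  have hout : ∀ b b' : Ω, b ∉ orbit ↥H a → b' ∉ orbit ↥H a → ∃ h : ↥H, h • b = b' := by
    intro b b' hb hb'
    by_contra hcon
    have h1 : (⟦a⟧ : orbitRel.Quotient ↥H Ω) ≠ ⟦b⟧ := fun e => hb (Quotient.exact e.symm)
    have h1' : (⟦a⟧ : orbitRel.Quotient ↥H Ω) ≠ ⟦b'⟧ := fun e => hb' (Quotient.exact e.symm)
    have h3 : (⟦b⟧ : orbitRel.Quotient ↥H Ω) ≠ ⟦b'⟧ := fun e => hcon (Quotient.exact e.symm)
    have := Finset.card_le_univ ({⟦a⟧, ⟦b⟧, ⟦b'⟧} : Finset (orbitRel.Quotient ↥H Ω))
    rw [card_insert_of_notMem (by simp [h1, h1']), card_insert_of_notMem (by simp [h3]), card_singleton,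
      ← Nat.card_eq_fintype_card, htwo] at this
    omega
  have hXorb : ∀ c c' : G ⧸ H, c ≠ x₀ → c' ≠ x₀ → ∃ h : ↥H, h • c = c' := by
    have e : Fintype.card (orbitRel.Quotient ↥H (G ⧸ H)) = 2 := by
      have e1 := sum_card_fixedBy_eq_card_orbits_mul_card_group ↥H (G ⧸ H)
      have e2 := sum_card_fixedBy_eq_card_orbits_mul_card_group ↥H Ω
      have e3 : ∀ h : ↥H, Fintype.card (fixedBy (G ⧸ H) h) = Fintype.card (fixedBy Ω h) := fun h => by
        rw [Fintype.card_subtype, Fintype.card_subtype]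
        exact (hauto (h : G)).fixed_card_eq
      rw [sum_congr rfl fun h _ => e3 h, e2] at e1
      rw [← Nat.eq_of_mul_eq_mul_right Fintype.card_pos e1, ← Nat.card_eq_fintype_card, htwo]
    intro c c' hc hc'
    by_contra hcon
    have h0 : ∀ d : G ⧸ H, d ≠ x₀ → (⟦x₀⟧ : orbitRel.Quotient ↥H (G ⧸ H)) ≠ ⟦d⟧ := fun d hd e => by
      obtain ⟨h, hh⟩ : d ∈ orbit ↥H x₀ := Quotient.exact e.symm
      exact hd (hh.symm.trans (hHx h h.2))
    have h3 : (⟦c⟧ : orbitRel.Quotient ↥H (G ⧸ H)) ≠ ⟦c'⟧ := fun e => hcon (Quotient.exact e.symm)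
    have := Finset.card_le_univ ({⟦x₀⟧, ⟦c⟧, ⟦c'⟧} : Finset (orbitRel.Quotient ↥H (G ⧸ H)))
    rw [card_insert_of_notMem (by simp [h0 c hc, h0 c' hc']), card_insert_of_notMem (by simp [h3]),
      card_singleton, e] at this
    omega
  -- the pointwise stabiliser of the orbit
  let U₀ : Subgroup G :=
    { carrier := {g | g ∈ H ∧ ∀ y ∈ orbit ↥H a, g • y = y}
      mul_mem' := fun {g g'} hg hg' => ⟨mul_mem hg.1 hg'.1, fun y hy => by
        rw [mul_smul, hg'.2 y hy, hg.2 y hy]⟩
      one_mem' := ⟨one_mem _, fun y _ => one_smul G y⟩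
      inv_mem' := fun {g} hg => ⟨inv_mem hg.1, fun y hy => inv_smul_eq_iff.mpr (hg.2 y hy).symm⟩ }
  have horb : ∀ h ∈ H, ∀ y, y ∈ orbit ↥H a → h⁻¹ • y ∈ orbit ↥H a := fun h hh y hy =>
    mem_orbit_of_mem_orbit (⟨h⁻¹, inv_mem hh⟩ : ↥H) hy
  have horb' : ∀ h ∈ H, ∀ y, y ∉ orbit ↥H a → h • y ∉ orbit ↥H a := fun h hh y hy hm => hy (by
    simpa using horb h hh _ hm)
  have hU₀conj : ∀ h ∈ H, ∀ g ∈ U₀, h * g * h⁻¹ ∈ U₀ := fun h hh g hg =>
    ⟨mul_mem (mul_mem hh hg.1) (inv_mem hh), fun y hy => by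
      rw [mul_smul, mul_smul, hg.2 _ (horb h hh y hy), smul_inv_smul]⟩
  have hU₀u : (u : G) ∈ U₀ := ⟨u.2, fun y hy => huf y hy⟩
  have hu1 : (u : G) ≠ 1 := fun e => hu (Subtype.ext e)
  have hU₀ax : ∀ g ∈ U₀, D.Axial x₀ (toPerm g) (toPerm g) := fun g hg =>
    ⟨hauto g, fun y hy => hg.2 y ((hx0 y).mp hy)⟩
  have huniq : ∀ g ∈ U₀, g ≠ 1 → ∀ y z, y ∉ orbit ↥H a → z ∉ orbit ↥H a → g • y = y → g • z = z → y = z :=
    fun g hg hg1 y z hy hz fy fz => (hU₀ax g hg).unique_fixed
      (fun e => hg1 (hfaith g fun w => Equiv.congr_fun e w))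
      (fun hm => hy ((hx0 y).mp hm)) (fun hm => hz ((hx0 z).mp hm)) fy fz
  -- a semiregular subgroup of it
  obtain ⟨N, hNle, hNbot, hNconj, hNfree⟩ : ∃ N : Subgroup G, N ≤ U₀ ∧ N ≠ ⊥ ∧
      (∀ h ∈ H, ∀ g ∈ N, h * g * h⁻¹ ∈ N) ∧ ∀ g ∈ N, ∀ y, y ∉ orbit ↥H a → g • y = y → g = 1 := by
    by_cases hfree : ∀ g ∈ U₀, ∀ y, y ∉ orbit ↥H a → g • y = y → g = 1
    · exact ⟨U₀, le_rfl, fun e => hu1 (by rw [e] at hU₀u; exact Subgroup.mem_bot.mp hU₀u), hU₀conj, hfree⟩
    push Not at hfree
    obtain ⟨g₀, hg₀, y, hy, hgy, hg₀1⟩ := hfree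
    let P : Ω → Subgroup ↥U₀ := fun z => stabilizer ↥U₀ z
    have hmoves : ∀ z, z ∉ orbit ↥H a → ∃ g ∈ U₀, g • z ≠ z := by
      intro z hz
      by_contra hcon
      push Not at hcon
      refine hu1 (hfaith _ fun w => ?_)
      by_cases hw : w ∈ orbit ↥H a
      · exact huf w hw
      · obtain ⟨h, rfl⟩ := hout z w hz hw
        have h1 := hcon _ (hU₀conj (h : G)⁻¹ (inv_mem h.2) _ hU₀u)
        rw [inv_inv, mul_smul, mul_smul, inv_smul_eq_iff] at h1
        exact h1
    have hdisj : ∀ z w, z ∉ orbit ↥H a → w ∉ orbit ↥H a → z ≠ w → ∀ g : ↥U₀, g • z = z → g • w = w → g = 1 :=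
      fun z w hz hw hzw g h1 h2' => by_contra fun hg =>
        hzw (huniq g g.2 (fun e => hg (Subtype.ext e)) z w hz hw h1 h2')
    have hcard : ∀ z, z ∉ orbit ↥H a → Nat.card ↥(P z) = Nat.card ↥(P y) := by
      have key : ∀ z w, z ∉ orbit ↥H a → w ∉ orbit ↥H a → Nat.card ↥(P z) ≤ Nat.card ↥(P w) := by
        intro z w hz hw
        obtain ⟨h, hzw⟩ := hout z w hz hw
        refine Nat.card_le_card_of_injective
          (fun g => (⟨⟨(h : G) * g.1 * (h : G)⁻¹, hU₀conj h h.2 _ g.1.2⟩, ?_⟩ : ↥(P w))) fun g g' e => ?_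
        · show ((h : G) * g.1 * (h : G)⁻¹) • w = w
          rw [mul_smul, mul_smul, ← hzw, show (h : G)⁻¹ • h • z = z from inv_smul_smul (h : G) z,
            show (g.1 : G) • z = z from g.2]
          rfl
        · have e' : (h : G) * g.1 * (h : G)⁻¹ = (h : G) * g'.1 * (h : G)⁻¹ :=
            congrArg (fun q : ↥(P w) => ((q.1 : ↥U₀) : G)) e
          exact Subtype.ext (Subtype.ext (mul_left_cancel (mul_right_cancel e')))
      exact fun z hz => le_antisymm (key z y hz hy) (key y z hy hz)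
    have hP2 : 1 < Nat.card ↥(P y) := by
      rw [Finite.one_lt_card_iff_nontrivial]
      exact ⟨⟨⟨g₀, hg₀⟩, hgy⟩, 1, fun e => hg₀1 (congrArg (fun q : ↥(P y) => ((q.1 : ↥U₀) : G)) e)⟩
    have htrans : ∀ z, z ∉ orbit ↥H a → z ∈ orbit ↥U₀ y := by
      intro z hz
      by_contra hzy
      let O := univ.filter fun w => w ∈ orbit ↥U₀ y ∨ w ∈ orbit ↥U₀ z
      have hOout : ∀ w ∈ O, w ∉ orbit ↥H a := by
        intro w hw
        rcases (mem_filter.mp hw).2 with ⟨g, rfl⟩ | ⟨g, rfl⟩
        · exact horb' g g.2.1 y hy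
        · exact horb' g g.2.1 z hz
      have hsum : ∑ w ∈ O, ((univ.filter fun g : ↥U₀ => g • w = w).erase 1).card + 1 ≤
          Fintype.card ↥U₀ := by
        rw [← card_biUnion]
        · have hsub : (O.biUnion fun w => (univ.filter fun g : ↥U₀ => g • w = w).erase 1) ⊆
              univ.erase 1 := fun g hg => by
            obtain ⟨w, -, hw⟩ := mem_biUnion.mp hg
            exact mem_erase.mpr ⟨(mem_erase.mp hw).1, mem_univ g⟩
          have h1 := card_le_card hsub
          rw [card_erase_of_mem (mem_univ _), card_univ] at h1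
          have := Fintype.card_pos (α := ↥U₀)
          omega
        · intro w hw w' hw' hww
          rw [Function.onFun, disjoint_left]
          intro g hg hg'
          simp only [mem_erase, mem_filter, mem_univ, true_and] at hg hg'
          exact hg.1 (hdisj w w' (hOout w hw) (hOout w' hw') hww g hg.2 hg'.2)
      have hs : ∀ w ∈ O, ((univ.filter fun g : ↥U₀ => g • w = w).erase 1).card = Nat.card ↥(P y) - 1 := by
        intro w hw
        rw [card_erase_of_mem (by simp), ← hcard w (hOout w hw), Nat.card_eq_fintype_card,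
          Fintype.card_subtype]
        rfl
      rw [sum_congr rfl hs, sum_const, smul_eq_mul] at hsum
      have horbs : ∀ w, w ∉ orbit ↥H a →
          (univ.filter fun x => x ∈ orbit ↥U₀ w).card * Nat.card ↥(P y) = Fintype.card ↥U₀ := by
        intro w hw
        rw [← hcard w hw, ← Fintype.card_subtype, Nat.card_eq_fintype_card]
        exact card_orbit_mul_card_stabilizer_eq_card_group ↥U₀ w
      have hO : O.card = (univ.filter fun x => x ∈ orbit ↥U₀ y).card +
          (univ.filter fun x => x ∈ orbit ↥U₀ z).card := by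
        simp only [O, filter_or]
        refine card_union_of_disjoint ?_
        rw [disjoint_left]
        intro w h1 h2'
        refine hzy ?_
        rw [← orbit_eq_iff.mpr (mem_filter.mp h1).2, orbit_eq_iff.mpr (mem_filter.mp h2').2]
        exact mem_orbit_self z
      have e1 := horbs y hy
      have e2 := horbs z hz
      rw [hO, Nat.mul_sub_one, add_mul, e1, e2] at hsum
      have h3 := Nat.mul_le_mul_left (univ.filter fun x => x ∈ orbit ↥U₀ y).card hP2
      have h4 := Nat.mul_le_mul_left (univ.filter fun x => x ∈ orbit ↥U₀ z).card hP2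
      rw [e1] at h3
      rw [e2] at h4
      omega
    have hPtop : P y ≠ ⊤ := by
      obtain ⟨g, hg, hgy'⟩ := hmoves y hy
      intro e
      exact hgy' (show (⟨g, hg⟩ : ↥U₀) • y = y from (e ▸ Subgroup.mem_top _ : (⟨g, hg⟩ : ↥U₀) ∈ P y))
    have hF : Cfsg.IsFrobeniusComplement (P y) := by
      refine ⟨fun e => ?_, hPtop, fun g hg => ?_⟩
      · rw [e, Subgroup.card_bot] at hP2; omega
      · rw [Subgroup.eq_bot_iff_forall]
        rintro q ⟨hq1, hq2⟩
        refine hdisj y (g • y) hy (horb' g g.2.1 y hy) (fun e => hg e.symm) q hq1 ?_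
        obtain ⟨r, hr, rfl⟩ := hq2
        show (g * r * g⁻¹) • g • y = g • y
        rw [mul_smul, mul_smul, inv_smul_smul, show r • y = y from hr]
    obtain ⟨K, hKset, -, hKcompl⟩ := Frobenius.exists_kernel hF
    have hKmem : ∀ q : ↥U₀, q ∈ K ↔ q = 1 ∨ ∀ z, z ∉ orbit ↥H a → q • z ≠ z := by
      intro q
      rw [← SetLike.mem_coe, hKset]
      refine or_congr_right ⟨fun h z hz hqz => ?_, fun h g hm => ?_⟩
      · obtain ⟨g, hgz⟩ := htrans z hz
        refine h g ⟨g⁻¹ * q * g, ?_, ?_⟩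
        · show (g⁻¹ * q * g) • y = y
          rw [mul_smul, mul_smul, show g • y = z from hgz, hqz, ← hgz]
          exact inv_smul_smul g y
        · show g * (g⁻¹ * q * g) * g⁻¹ = q
          group
      · obtain ⟨r, hr, rfl⟩ := hm
        refine h (g • y) (horb' g g.2.1 y hy) ?_
        show (g * r * g⁻¹) • g • y = g • y
        rw [mul_smul, mul_smul, inv_smul_smul, show r • y = y from hr]
    refine ⟨K.map U₀.subtype, Subgroup.map_subtype_le K, fun e => ?_, fun h hh g hg => ?_,
      fun g hg z hz hgz => ?_⟩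
    · rw [Subgroup.map_eq_bot_iff_of_injective _ U₀.subtype_injective] at e
      rw [e] at hKcompl
      exact hPtop (Subgroup.isComplement'_bot_left.mp hKcompl)
    · obtain ⟨q, hq, rfl⟩ := hg
      refine ⟨⟨h * q * h⁻¹, hU₀conj h hh q q.2⟩, ?_, rfl⟩
      rcases (hKmem q).mp hq with rfl | hqf
      · refine (hKmem _).mpr (Or.inl (Subtype.ext ?_))
        show h * 1 * h⁻¹ = 1
        group
      · refine (hKmem _).mpr (Or.inr fun z hz hqz => ?_)
        have hqz' : (h * (q : G) * h⁻¹) • z = z := hqz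
        rw [mul_smul, mul_smul, ← eq_inv_smul_iff] at hqz'
        exact hqf (h⁻¹ • z) (horb' _ (inv_mem hh) z hz) hqz'
    · obtain ⟨q, hq, rfl⟩ := hg
      rcases (hKmem q).mp hq with rfl | hqf
      · rfl
      · exact absurd hgz (hqf z hz)
  have hNout : ∀ (c : G), ∀ g, (c : G ⧸ H).out⁻¹ * g * (c : G ⧸ H).out ∈ N ↔ c⁻¹ * g * c ∈ N := by
    intro c g
    obtain ⟨h, hh⟩ := QuotientGroup.mk_out_eq_mul H c
    rw [hh]
    constructor
    · intro hm
      have := hNconj h h.2 _ hm
      simpa [mul_assoc] using this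
    · intro hm
      have := hNconj (h : G)⁻¹ (inv_mem h.2) _ hm
      simpa [mul_assoc] using this
  refine ⟨{
    D := D
    inv := hinv
    faithful := hfaith
    U := fun x => N.comap (MulAut.conj x.out⁻¹).toMonoidHom
    conj := ?_
    axis := ?_
    free := ?_
    move := ?_
    trans := ?_ }⟩
  · intro g x v hv
    obtain ⟨c, rfl⟩ := QuotientGroup.mk_surjective x
    have hv' : c⁻¹ * v * c ∈ N := (hNout c v).mp (by simpa using hv)
    have := (hNout (g * c) (g * v * g⁻¹)).mpr (by simpa [mul_assoc] using hv')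
    simpa using this
  · intro x v hv y hy
    have hv' : x.out⁻¹ * v * x.out ∈ N := by simpa using hv
    have := (hNle hv').2 _ ((hD x y).mp hy)
    rwa [mul_smul, mul_smul, smul_inv_smul, smul_left_cancel_iff] at this
  · intro x v hv y hy hvy
    have hv' : x.out⁻¹ * v * x.out ∈ N := by simpa using hv
    have h1 := hNfree _ hv' (x.out⁻¹ • y) (fun h => hy ((hD x y).mpr h)) (by
      rw [mul_smul, mul_smul, smul_inv_smul, hvy])
    calc v = x.out * (x.out⁻¹ * v * x.out) * x.out⁻¹ := by group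
      _ = 1 := by rw [h1]; group
  · intro x c hc
    have hc' : x.out⁻¹ • c ≠ x₀ := fun e => hc (by
      rw [inv_smul_eq_iff] at e
      rw [e]
      show ((x.out * 1 : G) : G ⧸ H) = x
      rw [mul_one, QuotientGroup.out_eq'])
    obtain ⟨g, hgN, hgc⟩ : ∃ g ∈ N, g • (x.out⁻¹ • c) ≠ x.out⁻¹ • c := by
      by_contra hcon
      push Not at hcon
      refine hNbot ((Subgroup.eq_bot_iff_forall _).mpr fun g hg => hblocks g fun e => ?_)
      by_cases he : e = x₀
      · rw [he]; exact hHx g (hNle hg).1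
      · obtain ⟨h, rfl⟩ := hXorb _ e hc' he
        have h1 := hcon _ (hNconj (h : G)⁻¹ (inv_mem h.2) g hg)
        rw [inv_inv, mul_smul, mul_smul, inv_smul_eq_iff] at h1
        exact h1
    refine ⟨x.out * g * x.out⁻¹, by simpa [mul_assoc] using hgN, fun e => hgc ?_⟩
    rw [mul_smul, mul_smul, smul_eq_iff_eq_inv_smul] at e
    exact e
  · intro x b hb b' hb'
    obtain ⟨h, hh⟩ := exists_orbit_elem ((hD x b).mp hb) ((hD x b').mp hb')
    refine ⟨x.out * h * x.out⁻¹, ?_, ?_⟩
    · conv_lhs =>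
        arg 2
        rw [← QuotientGroup.out_eq' x]
      show ((x.out * h * x.out⁻¹ * x.out : G) : G ⧸ H) = x
      rw [inv_mul_cancel_right, QuotientGroup.mk_mul_of_mem _ h.2, QuotientGroup.out_eq']
    · rw [mul_smul, mul_smul, show (h : G) • x.out⁻¹ • b = x.out⁻¹ • b' from hh, smul_inv_smul]
where
  exists_orbit_elem {K : Subgroup G} {a b b' : Ω} (hb : b ∈ orbit ↥K a) (hb' : b' ∈ orbit ↥K a) :
      ∃ h : ↥K, h • b = b' := by
    obtain ⟨g, rfl⟩ := hb
    obtain ⟨g', rfl⟩ := hb'
    exact ⟨g' * g⁻¹, by rw [mul_smul, inv_smul_smul]⟩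

end Cfsg.Agent.AxialDesign
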