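/-
An axial family of a symmetric design makes it a projective space over a finite field.

* `AxialSys.exists_projective` : points of the design are the points of a projective space, blocks are
  its hyperplanes
-/
import Cfsg.Agent.Lib.AxialDesign.LinearData
import Cfsg.Agent.Lib.AxialDesign.LinearCoord

set_option autoImplicit false

namespace Cfsg.Agent.AxialDesign

open Finset MulAction

variable {G X Ω : Type*} [Group G] [Finite G] [Fintype X] [Fintype Ω] [DecidableEq X] [DecidableEq Ω]
  [MulAction G X] [MulAction G Ω]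

/-- Vanishing of a functional does not depend on the representative. -/
theorem map_rep_eq_zero {K W : Type*} [Field K] [AddCommGroup W] [Module K W] (f : W →ₗ[K] K) (v : W)
    (hv : v ≠ 0) : f (Projectivization.mk K v hv).rep = 0 ↔ f v = 0 := by
  obtain ⟨r, hr⟩ := Projectivization.exists_smul_eq_mk_rep K v hv
  rw [← hr, Units.smul_def, map_smul, smul_eq_mul, mul_eq_zero]
  simp

/-- The functional `(t, v) ↦ t * r + f v`. -/
def affineFun {K : Type*} [Field K] {n : ℕ} (r : K) (f : (Fin n → K) →ₗ[K] K) :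
    (Fin (n + 1) → K) →ₗ[K] K where
  toFun u := u 0 * r + f (Fin.tail u)
  map_add' u v := by
    have e : Fin.tail (u + v) = Fin.tail u + Fin.tail v := rfl
    simp only [e, map_add, Pi.add_apply]
    ring
  map_smul' c u := by
    have e : Fin.tail (c • u) = c • Fin.tail u := rfl
    simp only [e, map_smul, Pi.smul_apply, smul_eq_mul, RingHom.id_apply]
    ring

theorem affineFun_cons {K : Type*} [Field K] {n : ℕ} (r : K) (f : (Fin n → K) →ₗ[K] K) (t : K)
    (v : Fin n → K) : affineFun r f (Fin.cons t v) = t * r + f v := by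
  simp [affineFun]

namespace AxialSys

variable (S : AxialSys G X Ω)

/-- The points of the design are those of a projective space, the blocks its hyperplanes. -/
theorem exists_projective (x₀ : X) : ∃ (n : ℕ) (K : Type) (_ : Field K) (_ : Fintype K)
    (φ : Ω ≃ Projectivization K (Fin (n + 1) → K)), 2 ≤ n ∧ Fintype.card K = S.Q x₀ ∧
    (∀ x, ∃ f : (Fin (n + 1) → K) →ₗ[K] K, f ≠ 0 ∧ ∀ y, y ∈ S.D.blk x ↔ f (φ y).rep = 0) ∧
    ∀ f : (Fin (n + 1) → K) →ₗ[K] K, f ≠ 0 → ∃ x, ∀ y, y ∈ S.D.blk x ↔ f (φ y).rep = 0 := by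
  classical
  obtain ⟨p₀, hp⟩ : ∃ p, p ∉ S.D.blk x₀ := by
    by_contra hcon
    push Not at hcon
    have := card_le_card (fun p _ => hcon p : (univ : Finset Ω) ⊆ S.D.blk x₀)
    rw [card_univ, S.D.card_blk] at this
    have := S.D.k_lt
    omega
  obtain ⟨n, K, hKf, hKfin, e, hn, hK, hline, hline', hhyp, hhyp'⟩ :=
    (S.linData x₀ p₀ hp).exists_coordinates
  have hpick : ∀ y, ∃ v : Fin (n + 1) → K,
      (y ∈ S.D.blk x₀ → v 0 = 0 ∧ Fin.tail v ≠ 0 ∧
        ∀ z, z ∈ S.lineAdd x₀ y ↔ ∃ c : K, e z = c • Fin.tail v) ∧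
      (y ∉ S.D.blk x₀ → ∃ u : ↥(S.U x₀),
        (u : G) • p₀ = y ∧ v = Fin.cons 1 (e (Additive.ofMul u))) := by
    intro y
    by_cases hy : y ∈ S.D.blk x₀
    · obtain ⟨w, hw, hwz⟩ := hline _ ⟨y, hy, rfl⟩
      exact ⟨Fin.cons 0 w, fun _ => ⟨by simp, by simpa using hw, fun z => by simpa using hwz z⟩,
        fun h => absurd hy h⟩
    · obtain ⟨u, hu, huy⟩ := S.exists_smul_eq hp hy
      exact ⟨_, fun h => absurd h hy, fun _ => ⟨⟨u, hu⟩, huy, rfl⟩⟩
  choose vec hin hout using hpick
  have hvec : ∀ y, vec y ≠ 0 := by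
    intro y h0
    by_cases hy : y ∈ S.D.blk x₀
    · exact (hin y hy).2.1 (by rw [h0]; rfl)
    · obtain ⟨u, -, hu⟩ := hout y hy
      have := congrFun (hu.symm.trans h0) 0
      simp at this
  let φ₀ : Ω → Projectivization K (Fin (n + 1) → K) := fun y => Projectivization.mk K (vec y) (hvec y)
  have hinj : Function.Injective φ₀ := by
    intro y y' h
    obtain ⟨r, hr⟩ := (Projectivization.mk_eq_mk_iff' K _ _ (hvec y) (hvec y')).mp h
    have h0 : r * vec y' 0 = vec y 0 := congrFun hr 0
    by_cases hy : y ∈ S.D.blk x₀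
    · obtain ⟨e0, ht, hz⟩ := hin y hy
      have hr0 : r ≠ 0 := fun e => hvec y (by rw [← hr, e, zero_smul])
      by_cases hy' : y' ∈ S.D.blk x₀
      · obtain ⟨-, -, hz'⟩ := hin y' hy'
        refine S.lineAdd_injective hy (AddSubgroup.ext fun z => ?_)
        rw [hz, hz']
        have et : Fin.tail (vec y) = r • Fin.tail (vec y') := by rw [← hr]; rfl
        constructor
        · rintro ⟨c, hc⟩; exact ⟨c * r, by rw [hc, et, smul_smul]⟩
        · rintro ⟨c, hc⟩
          exact ⟨c * r⁻¹, by rw [hc, et, smul_smul, mul_assoc, inv_mul_cancel₀ hr0, mul_one]⟩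
      · obtain ⟨u', -, hu'⟩ := hout y' hy'
        rw [e0, hu', Fin.cons_zero, mul_one] at h0
        exact absurd h0 hr0
    · obtain ⟨u, huy, hu⟩ := hout y hy
      by_cases hy' : y' ∈ S.D.blk x₀
      · rw [(hin y' hy').1, hu, Fin.cons_zero, mul_zero] at h0
        exact absurd h0 zero_ne_one
      · obtain ⟨u', huy', hu'⟩ := hout y' hy'
        rw [hu, hu', Fin.cons_zero, mul_one, Fin.cons_zero] at h0
        rw [h0, one_smul, hu, hu', Fin.cons_inj] at hr
        rw [← huy, ← huy', Additive.ofMul.injective (e.injective hr.2)]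
  have hsurj : Function.Surjective φ₀ := by
    intro P
    induction P using Projectivization.ind with
    | _ v hv =>
      by_cases h0 : v 0 = 0
      · have ht : Fin.tail v ≠ 0 := fun h => hv (funext fun i => by
          cases i using Fin.cases with
          | zero => simpa using h0
          | succ j => exact congrFun h j)
        obtain ⟨T, ⟨a, ha, rfl⟩, hT⟩ := hline' _ ht
        obtain ⟨e0, ht', hz⟩ := hin a ha
        refine ⟨a, (Projectivization.mk_eq_mk_iff' K _ _ (hvec a) hv).mpr ?_⟩
        obtain ⟨c, hc⟩ := (hT (e.symm (Fin.tail (vec a)))).mp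
          ((hz _).mpr ⟨1, by rw [e.apply_symm_apply, one_smul]⟩)
        rw [e.apply_symm_apply] at hc
        refine ⟨c, ?_⟩
        rw [← Fin.cons_self_tail (vec a), e0, hc]
        funext i
        cases i using Fin.cases with
        | zero => simp [h0]
        | succ j => simp [Fin.tail]
      · let w := e.symm ((v 0)⁻¹ • Fin.tail v)
        set y := ((Additive.toMul w : ↥(S.U x₀)) : G) • p₀ with hy
        have hyx : y ∉ S.D.blk x₀ := fun h => hp
          ((S.inv _ x₀ p₀).mp ((S.fix_axis (Additive.toMul w : ↥(S.U x₀)).2).symm ▸ h))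
        obtain ⟨u, huy, hu⟩ := hout y hyx
        have huw : (u : G) = ((Additive.toMul w : ↥(S.U x₀)) : G) := by
          have h1 := S.free x₀ _ (mul_mem (inv_mem (Additive.toMul w : ↥(S.U x₀)).2) u.2) p₀ hp
            (by rw [mul_smul, huy, hy, inv_smul_smul])
          exact (inv_mul_eq_one.mp h1).symm
        refine ⟨y, (Projectivization.mk_eq_mk_iff' K _ _ (hvec y) hv).mpr ⟨(v 0)⁻¹, ?_⟩⟩
        have hew : e (Additive.ofMul u) = (v 0)⁻¹ • Fin.tail v := by
          rw [show u = (Additive.toMul w : ↥(S.U x₀)) from Subtype.ext huw, ofMul_toMul,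
            e.apply_symm_apply]
        rw [hu, hew]
        funext i
        cases i using Fin.cases with
        | zero => simp [h0]
        | succ j => simp [Fin.tail]
  let φ := Equiv.ofBijective φ₀ ⟨hinj, hsurj⟩
  have hrep : ∀ (f : (Fin (n + 1) → K) →ₗ[K] K) y, f (φ y).rep = 0 ↔ f (vec y) = 0 := fun f y =>
    map_rep_eq_zero f (vec y) (hvec y)
  -- the block at infinity
  have hinf : ∀ r : K, r ≠ 0 → ∀ y, y ∈ S.D.blk x₀ ↔ affineFun r 0 (vec y) = 0 := by
    intro r hr y
    constructor
    · intro hy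
      rw [← Fin.cons_self_tail (vec y), affineFun_cons, (hin y hy).1]
      simp
    · intro h
      by_contra hy
      obtain ⟨u, -, hu⟩ := hout y hy
      rw [hu, affineFun_cons] at h
      simp [hr] at h
  -- the other blocks, as translates of blocks through the base point
  have hkey : ∀ c', c' ≠ x₀ → p₀ ∈ S.D.blk c' → ∀ w : ↥(S.U x₀), ∀ g : (Fin n → K) →ₗ[K] K,
      (∀ z, z ∈ S.hypAdd x₀ c' ↔ g (e z) = 0) → ∀ y,
        (y ∈ S.D.blk ((w : G)⁻¹ • c') ↔ affineFun (g (e (Additive.ofMul w))) g (vec y) = 0) := by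
    intro c' hc' hpc w g hg y
    rw [← S.inv (w : G), smul_inv_smul]
    by_cases hy : y ∈ S.D.blk x₀
    · rw [S.axis x₀ w w.2 y hy, ← S.lineAdd_le_iff hy]
      obtain ⟨e0, -, hz⟩ := hin y hy
      rw [← Fin.cons_self_tail (vec y), affineFun_cons, e0, zero_mul, zero_add]
      constructor
      · intro hle
        have hm := (hg (e.symm (Fin.tail (vec y)))).mp
          (hle ((hz _).mpr ⟨1, by rw [e.apply_symm_apply, one_smul]⟩))
        rwa [e.apply_symm_apply] at hm
      · intro hg0 z hzz
        obtain ⟨c, hc⟩ := (hz z).mp hzz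
        rw [hg, hc, map_smul, hg0, smul_zero]
    · obtain ⟨u, huy, hu⟩ := hout y hy
      rw [hu, affineFun_cons, one_mul, ← map_add, ← map_add, ← huy, ← mul_smul,
        S.smul_mem_blk_iff hp hc' hpc (mul_mem w.2 u.2)]
      exact hg (Additive.ofMul w + Additive.ofMul u)
  refine ⟨n, K, inferInstance, inferInstance, φ, hn, hK, fun x => ?_, fun f hf => ?_⟩
  · by_cases hx : x = x₀
    · subst hx
      refine ⟨affineFun 1 0, fun h => ?_, fun y => (hinf 1 one_ne_zero y).trans (hrep _ y).symm⟩
      have := LinearMap.congr_fun h (Fin.cons 1 0)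
      rw [affineFun_cons] at this
      simp at this
    · obtain ⟨w, hw, hwc, hpc, -⟩ := S.exists_through hp hx
      obtain ⟨g, hg0, hg⟩ := hhyp _ ⟨w • x, hwc, hpc, rfl⟩
      refine ⟨affineFun (g (e (Additive.ofMul ⟨w, hw⟩))) g, fun h => hg0 (LinearMap.ext fun v => ?_),
        fun y => ?_⟩
      · have := LinearMap.congr_fun h (Fin.cons 0 v)
        rw [affineFun_cons] at this
        simpa using this
      · have hk := hkey _ hwc hpc ⟨w, hw⟩ g hg y
        rw [inv_smul_smul] at hk
        exact hk.trans (hrep _ y).symm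
  · let g : (Fin n → K) →ₗ[K] K :=
      { toFun := fun v => f (Fin.cons 0 v)
        map_add' := fun u v => by
          rw [← map_add]
          congr 1
          funext i
          cases i using Fin.cases <;> simp
        map_smul' := fun c u => by
          rw [RingHom.id_apply, ← map_smul]
          congr 1
          funext i
          cases i using Fin.cases <;> simp }
    have hgdef : ∀ v, g v = f (Fin.cons 0 v) := fun v => rfl
    set r := f (Fin.cons 1 0) with hr
    have hfg : f = affineFun r g := LinearMap.ext fun u => by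
      have hd : u = u 0 • (Fin.cons 1 0 : Fin (n + 1) → K) + Fin.cons 0 (Fin.tail u) := by
        funext i
        cases i using Fin.cases <;> simp [Fin.tail]
      conv_lhs => rw [hd]
      rw [map_add, map_smul, smul_eq_mul, ← hr, ← hgdef]
      rfl
    by_cases hg0 : g = 0
    · refine ⟨x₀, fun y => ?_⟩
      rw [hrep, hfg, hg0]
      exact hinf r (fun hr0 => hf (by
        rw [hfg, hg0, hr0]
        exact LinearMap.ext fun u => by simp [affineFun])) y
    · obtain ⟨M, ⟨c', hc', hpc, rfl⟩, hM⟩ := hhyp' g hg0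
      obtain ⟨v, hv⟩ := g.surjective_iff_ne_zero.mpr hg0 r
      refine ⟨((Additive.toMul (e.symm v) : ↥(S.U x₀)) : G)⁻¹ • c', fun y => ?_⟩
      rw [hkey c' hc' hpc _ g hM y, hrep, ofMul_toMul, e.apply_symm_apply, hv, ← hfg]

end AxialSys

end Cfsg.Agent.AxialDesign
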