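/-
The group generated by the axial groups is the projective special linear group.

* `AxialSys.recognition` : a normal subgroup isomorphic to `PSL` with trivial centraliser
-/
import Cfsg.Agent.Lib.AxialDesign.Projective

set_option autoImplicit false

namespace Cfsg.Agent.AxialDesign

open Finset MulAction

variable {G X Ω : Type*} [Group G] [Finite G] [Fintype X] [Fintype Ω] [DecidableEq X] [DecidableEq Ω]
  [MulAction G X] [MulAction G Ω]

/-- The matrix of `v ↦ v + f v • w`. -/
def shear {K : Type*} [Field K] {n : ℕ} (f : (Fin n → K) →ₗ[K] K) (w : Fin n → K) :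
    Matrix (Fin n) (Fin n) K :=
  1 + Matrix.vecMulVec w (fun i => f (Pi.single i 1))

theorem apply_eq_dot {K : Type*} [Field K] {n : ℕ} (f : (Fin n → K) →ₗ[K] K) (v : Fin n → K) :
    (fun i => f (Pi.single i 1)) ⬝ᵥ v = f v := by
  conv_rhs => rw [pi_eq_sum_univ' v]
  simp [dotProduct, mul_comm]

theorem shear_mulVec {K : Type*} [Field K] {n : ℕ} (f : (Fin n → K) →ₗ[K] K) (w v : Fin n → K) :
    (shear f w).mulVec v = v + f v • w := by
  rw [shear, Matrix.add_mulVec, Matrix.one_mulVec, Matrix.vecMulVec_mulVec, apply_eq_dot]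
  funext i
  simp [mul_comm]

theorem shear_det {K : Type*} [Field K] {n : ℕ} (f : (Fin n → K) →ₗ[K] K) (w : Fin n → K)
    (h : f w = 0) : (shear f w).det = 1 := by
  rw [shear, Matrix.vecMulVec_eq Unit, Matrix.det_one_add_replicateCol_mul_replicateRow, apply_eq_dot, h,
    add_zero]

theorem smul_mk_eq {K : Type*} [Field K] {n : ℕ} (A : Matrix.SpecialLinearGroup (Fin n) K)
    (v : Fin n → K) (hv : v ≠ 0) (hAv : (A : Matrix (Fin n) (Fin n) K).mulVec v ≠ 0) :
    A • Projectivization.mk K v hv =
      Projectivization.mk K ((A : Matrix (Fin n) (Fin n) K).mulVec v) hAv :=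
  rfl

namespace AxialSys

variable (S : AxialSys G X Ω)

include S in
theorem recognition (x₀ : X) : ∃ (m : ℕ) (F : Type) (_ : Field F) (_ : Fintype F), 2 ≤ m ∧
    Nat.card Ω = (Fintype.card F ^ (m + 1) - 1) / (Fintype.card F - 1) ∧
    ∃ N : Subgroup G, N.Normal ∧
      Nonempty (↥N ≃* Matrix.ProjectiveSpecialLinearGroup (Fin (m + 1)) F) ∧
      Subgroup.centralizer (N : Set G) = ⊥ := by
  classical
  obtain ⟨n, K, hKf, hKfin, φ, hn, hKQ, hblk, hblk'⟩ := S.exists_projective x₀
  have hQ : ∀ x, S.Q x = S.Q x₀ := fun x => by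
    have h1 := (S.parameters x).1
    have h2 := (S.parameters x₀).1
    exact Nat.eq_of_mul_eq_mul_left S.D.l_pos (by omega)
  refine ⟨n, K, hKf, hKfin, hn, ?_, ⨆ x, S.U x, ?_, ?_, ?_⟩
  · rw [Nat.card_congr φ, Projectivization.card'', Nat.card_pi, Nat.card_eq_fintype_card (α := K)]
    simp
  · refine ⟨fun u hu g => ?_⟩
    have h : (⨆ x, S.U x) ≤ (⨆ x, S.U x).comap (MulAut.conj g).toMonoidHom :=
      iSup_le fun x v hv => Subgroup.mem_iSup_of_mem (g • x) (S.conj g x v hv)
    exact h hu
  · let Γ : G →* Equiv.Perm (Projectivization K (Fin (n + 1) → K)) :=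
      φ.permCongrHom.toMonoidHom.comp (MulAction.toPermHom G Ω)
    have hΓ : ∀ g P, Γ g P = φ (g • φ.symm P) := fun g P => rfl
    have hΓinj : Function.Injective Γ := (injective_iff_map_eq_one Γ).mpr fun g hg =>
      S.faithful g fun y => by
        have h := Equiv.congr_fun hg (φ y)
        rw [hΓ, φ.symm_apply_apply] at h
        exact φ.injective h
    let SL := Matrix.SpecialLinearGroup (Fin (n + 1)) K
    let act : SL →* Equiv.Perm (Projectivization K (Fin (n + 1) → K)) := MulAction.toPermHom _ _
    -- every shear is an elation of the design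
    have key : ∀ (x : X) (f : (Fin (n + 1) → K) →ₗ[K] K), (∀ y, y ∈ S.D.blk x ↔ f (φ y).rep = 0) →
        ∀ a ∈ S.D.blk x, ∀ s : K, ∃ A : SL, (A : Matrix _ _ K) = shear f (s • (φ a).rep) ∧
          ∃ u ∈ S.T x a, Γ u = act A := by
      intro x f hf a ha s
      have hfw : f (s • (φ a).rep) = 0 := by rw [map_smul, (hf a).mp ha, smul_zero]
      set A : SL := ⟨shear f (s • (φ a).rep), shear_det f _ hfw⟩
      refine ⟨A, rfl, ?_⟩
      let π : Equiv.Perm Ω := φ.symm.permCongr (act A)
      have hπ : ∀ y, π y = φ.symm (A • φ y) := fun y => rfl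
      let B : (Fin (n + 1) → K) →ₗ[K] (Fin (n + 1) → K) := Matrix.mulVecLin (A : Matrix _ _ K)
      let B' : (Fin (n + 1) → K) →ₗ[K] (Fin (n + 1) → K) :=
        Matrix.mulVecLin ((A⁻¹ : SL) : Matrix _ _ K)
      have hB'B : ∀ v, B' (B v) = v := fun v => by
        simp only [B, B', Matrix.mulVecLin_apply, Matrix.mulVec_mulVec,
          ← Matrix.SpecialLinearGroup.coe_mul, inv_mul_cancel, Matrix.SpecialLinearGroup.coe_one,
          Matrix.one_mulVec]
      have hBB' : ∀ v, B (B' v) = v := fun v => by
        simp only [B, B', Matrix.mulVecLin_apply, Matrix.mulVec_mulVec,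
          ← Matrix.SpecialLinearGroup.coe_mul, mul_inv_cancel, Matrix.SpecialLinearGroup.coe_one,
          Matrix.one_mulVec]
      have hB : ∀ v, B v = v + f v • (s • (φ a).rep) := fun v => shear_mulVec _ _ v
      have hzero : ∀ (g : (Fin (n + 1) → K) →ₗ[K] K) y, g (φ (π y)).rep = 0 ↔ g (B (φ y).rep) = 0 := by
        intro g y
        rw [hπ, φ.apply_symm_apply]
        have hne : B (φ y).rep ≠ 0 := fun h => (φ y).rep_nonzero (by rw [← hB'B (φ y).rep, h, map_zero])
        conv_lhs => rw [← Projectivization.mk_rep (φ y)]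
        rw [smul_mk_eq A _ _ hne]
        exact map_rep_eq_zero g _ _
      have hσ : ∀ z : X, ∃ z' : X, ∀ y, π y ∈ S.D.blk z' ↔ y ∈ S.D.blk z := by
        intro z
        obtain ⟨g, hg, hgz⟩ := hblk z
        obtain ⟨z', hz'⟩ := hblk' (g ∘ₗ B') fun h => hg (LinearMap.ext fun v => by
          have := LinearMap.congr_fun h (B v)
          rwa [LinearMap.comp_apply, hB'B, LinearMap.zero_apply] at this)
        exact ⟨z', fun y => by rw [hz', hgz, hzero, LinearMap.comp_apply, hB'B]⟩
      choose σ₀ hσ₀ using hσ
      have hσinj : Function.Injective σ₀ := fun z z' h => S.D.blk_injective (Finset.ext fun y => by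
        rw [← hσ₀ z, ← hσ₀ z', h])
      let σ : Equiv.Perm X := Equiv.ofBijective σ₀ (Finite.injective_iff_bijective.mp hσinj)
      have hfix : ∀ v, f v = 0 → B v = v := fun v hv => by rw [hB, hv, zero_smul, add_zero]
      have hax : S.D.Axial x σ π := by
        refine ⟨fun z y => hσ₀ z y, fun y hy => φ.injective ?_⟩
        rw [hπ, φ.apply_symm_apply]
        have hne : B (φ y).rep ≠ 0 := by rw [hfix _ ((hf y).mp hy)]; exact (φ y).rep_nonzero
        conv_lhs => rw [← Projectivization.mk_rep (φ y), smul_mk_eq A _ _ hne]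
        conv_rhs => rw [← Projectivization.mk_rep (φ y)]
        refine (Projectivization.mk_eq_mk_iff' K _ _ _ _).mpr ⟨1, ?_⟩
        rw [one_smul]
        exact (hfix _ ((hf y).mp hy)).symm
      have hcen : ∀ e, a ∈ S.D.blk e → σ e = e := fun e he => S.D.blk_injective (Finset.ext fun y => by
        obtain ⟨y, rfl⟩ := π.surjective y
        obtain ⟨g, -, hge⟩ := hblk e
        show π y ∈ S.D.blk (σ₀ e) ↔ π y ∈ S.D.blk e
        rw [hσ₀, hge, hge, hzero, hB, map_add, map_smul, map_smul, (hge a).mp he]
        simp)
      obtain ⟨u, hu, huy⟩ := S.elation_mem hax ha hcen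
      refine ⟨u, hu, Equiv.ext fun P => ?_⟩
      rw [hΓ, huy, hπ, φ.apply_symm_apply, φ.apply_symm_apply]
      rfl
    -- the two groups of permutations agree
    have hrange : (⨆ x, S.U x).map Γ = (Projectivization.PSLAction.toPermHom (ι := Fin (n + 1)) (K := K)).range := by
      apply le_antisymm
      · rw [Subgroup.map_iSup]
        refine iSup_le fun x => ?_
        rintro _ ⟨u, hu, rfl⟩
        by_cases hu1 : u = 1
        · rw [hu1, map_one]; exact one_mem _
        obtain ⟨a, ha, hua⟩ := S.exists_mem_T hu hu1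
        obtain ⟨f, hf0, hf⟩ := hblk x
        choose A hA u' hu' hAu using key x f hf a ha
        have hinj : Function.Injective fun s => (⟨u' s, hu' s⟩ : ↥(S.T x a)) := by
          intro s s' h
          have e : act (A s) = act (A s') := by rw [← hAu, ← hAu]; exact congrArg (fun z : ↥(S.T x a) => Γ z) h
          obtain ⟨p, hp⟩ := f.surjective_iff_ne_zero.mpr hf0 1
          have hp0 : p ≠ 0 := fun h => by rw [h, map_zero] at hp; exact zero_ne_one hp
          have hne : ∀ t, (A t : Matrix _ _ K).mulVec p = p + t • (φ a).rep := fun t => by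
            rw [hA, shear_mulVec, hp, one_smul]
          have hne0 : ∀ t : K, p + t • (φ a).rep ≠ 0 := fun t h => by
            have := congrArg f h
            rw [map_add, map_smul, (hf a).mp ha, hp, map_zero] at this
            simp at this
          have e' : A s • Projectivization.mk K p hp0 = A s' • Projectivization.mk K p hp0 :=
            Equiv.congr_fun e (Projectivization.mk K p hp0)
          rw [smul_mk_eq _ _ _ (hne s ▸ hne0 s), smul_mk_eq _ _ _ (hne s' ▸ hne0 s'),
            Projectivization.mk_eq_mk_iff'] at e'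
          obtain ⟨r, hr⟩ := e'
          rw [hne, hne] at hr
          have hr1 := congrArg f hr
          simp only [map_smul, map_add, (hf a).mp ha, hp, smul_eq_mul, mul_zero, add_zero, mul_one] at hr1
          rw [hr1, one_smul, add_right_inj] at hr
          exact (smul_left_injective K (φ a).rep_nonzero hr).symm
        have hbij := hinj.bijective_of_nat_card_le (by
          rw [S.card_T ha, hQ, ← hKQ, Nat.card_eq_fintype_card])
        obtain ⟨s, hs⟩ := hbij.2 ⟨u, hua⟩
        refine ⟨((A s : SL) : Matrix.ProjectiveSpecialLinearGroup (Fin (n + 1)) K), ?_⟩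
        have hs' : u' s = u := congrArg Subtype.val hs
        rw [← hs', hAu]
        rfl
      · rintro _ ⟨c, rfl⟩
        obtain ⟨A, rfl⟩ := QuotientGroup.mk_surjective c
        have hall : ((⨆ x, S.U x).map Γ).comap act = ⊤ := by
          haveI : Nontrivial (Fin (n + 1)) := Fin.nontrivial_iff_two_le.mpr (by omega)
          refine Subgroup.eq_top_iff' _ |>.mpr fun A => SLGen.mem_of_all_transvections _ ?_ A
          intro i j hij c
          have hw : (Pi.single i (1 : K) : Fin (n + 1) → K) ≠ 0 := by simp
          let f : (Fin (n + 1) → K) →ₗ[K] K := LinearMap.proj j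
          obtain ⟨x, hx⟩ := hblk' f fun h => by
            have := LinearMap.congr_fun h (Pi.single j 1)
            simp [f] at this
          set a := φ.symm (Projectivization.mk K _ hw) with ha
          have hax : a ∈ S.D.blk x := by
            rw [hx, ha, φ.apply_symm_apply, map_rep_eq_zero]
            simp [f, hij.symm]
          obtain ⟨r, hr⟩ := Projectivization.exists_smul_eq_mk_rep K _ hw
          obtain ⟨T, hT, u, hu, huT⟩ := key x f hx a hax (c * ((r⁻¹ : Kˣ) : K))
          refine Subgroup.mem_comap.mpr ?_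
          have hTe : T = Matrix.SpecialLinearGroup.transvection hij c := by
            apply Subtype.ext
            rw [hT, ha, φ.apply_symm_apply, ← hr, Matrix.SpecialLinearGroup.transvection_coe, shear,
              Units.smul_def, smul_smul, mul_assoc, Units.inv_mul, mul_one]
            congr 1
            ext k l
            simp only [f, LinearMap.proj_apply, Matrix.vecMulVec_apply, Matrix.single_apply, Pi.smul_apply,
              Pi.single_apply, smul_eq_mul]
            by_cases h1 : k = i <;> by_cases h2 : l = j <;> simp [h1, h2, Ne.symm]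
          rw [← hTe, ← huT]
          exact Subgroup.mem_map_of_mem Γ (Subgroup.mem_iSup_of_mem x hu.1)
        exact (hall ▸ Subgroup.mem_top A : A ∈ ((⨆ x, S.U x).map Γ).comap act)
    exact ⟨((⨆ x, S.U x).equivMapOfInjective Γ hΓinj).trans ((MulEquiv.subgroupCongr hrange).trans
      (MonoidHom.ofInjective Matrix.ProjectiveSpecialLinearGroup.toPermHom_injective).symm)⟩
  · rw [Subgroup.eq_bot_iff_forall]
    intro g hg
    have hx : ∀ x : X, g • x = x := by
      intro x
      by_contra hne
      obtain ⟨c, hc⟩ := S.exists_block_ne x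
      obtain ⟨u, hu, huc⟩ := S.move x c hc
      have hcomm : u * g = g * u := hg u (Subgroup.mem_iSup_of_mem x hu)
      have h1 := S.conj g x u hu
      rw [← hcomm, mul_inv_cancel_right] at h1
      exact huc (by rw [S.eq_one_of_two hne h1 hu, one_smul])
    refine S.faithful g fun y => ?_
    have h := (S.isAuto g).fixed_card_eq
    have e : (univ.filter fun x : X => toPerm g x = x) = univ := filter_true_of_mem fun x _ => hx x
    rw [e, card_univ, S.D.card_eq, eq_comm, card_eq_iff_eq_univ] at h
    have hy : y ∈ univ.filter fun y : Ω => toPerm g y = y := by rw [h]; exact mem_univ y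
    exact (mem_filter.mp hy).2

end AxialSys

end Cfsg.Agent.AxialDesign
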